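import Cfsg.Agent.H42.Camina.Basic

/-!
Class sizes `1, m, m * n`: an abelian centraliser of index `m` is normal of prime index.
-/

set_option autoImplicit false
set_option linter.style.haveILetI false

namespace Cfsg.Agent.H42.Camina

open Subgroup
open Cfsg.Agent.H34.OneSize (cen mem_cen cen_conj IsPel mem_of_parts isPel_of_mem)

variable {G : Type*} [Group G]

/-- the elements of `q`-power order of an abelian subgroup -/
def qpart (M : Subgroup G) (q : ℕ) : Subgroup G := Subgroup.closure {x | x ∈ M ∧ IsPel q x}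

theorem qpart_le {M : Subgroup G} {q : ℕ} : qpart M q ≤ M :=
  (Subgroup.closure_le _).2 fun _ hx => hx.1

theorem mem_qpart {M : Subgroup G} (hM : ∀ a ∈ M, ∀ b ∈ M, Commute a b) {q : ℕ} {x : G} :
    x ∈ qpart M q ↔ x ∈ M ∧ IsPel q x := by
  refine ⟨fun hx => ⟨qpart_le hx, ?_⟩, fun hx => Subgroup.subset_closure hx⟩
  refine (Subgroup.closure_induction (p := fun y _ => y ∈ M ∧ IsPel q y) (fun _ h => h)
    ⟨M.one_mem, IsPel.one⟩ ?_ ?_ hx).2
  · exact fun a b _ _ ha hb => ⟨M.mul_mem ha.1 hb.1, ha.2.mul hb.2 (hM a ha.1 b hb.1)⟩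
  · exact fun a _ ha => ⟨M.inv_mem ha.1, ha.2.inv⟩

theorem isPGroup_qpart {M : Subgroup G} (hM : ∀ a ∈ M, ∀ b ∈ M, Commute a b) {q : ℕ} :
    IsPGroup q (qpart M q) := by
  rintro ⟨x, hx⟩
  obtain ⟨k, hk⟩ := ((mem_qpart hM).1 hx).2
  exact ⟨k, Subtype.ext hk⟩

theorem card_qpart [Finite G] {M : Subgroup G} (hM : ∀ a ∈ M, ∀ b ∈ M, Commute a b) {q : ℕ}
    (hq : q.Prime) : Nat.card (qpart M q) = q ^ fct q M := by
  obtain ⟨U, hUM, hU, hUc⟩ := exists_full hq M
  refine le_antisymm (H34.OneSize.card_le_of_le hq (isPGroup_qpart hM) qpart_le) ?_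
  rw [← hUc]
  exact Subgroup.card_le_of_le fun u hu => (mem_qpart hM).2 ⟨hUM hu, isPel_of_mem hU hu⟩

theorem rel_ne_zero [Finite G] (H K : Subgroup G) : H.relIndex K ≠ 0 :=
  Subgroup.index_ne_zero_of_finite (H := H.subgroupOf K)

theorem cen_conj_congr {x y : G} (e : cen x = cen y) (g : G) :
    cen (g * x * g⁻¹) = cen (g * y * g⁻¹) := by
  ext u; rw [cen_conj, cen_conj, e]

theorem mem_normalizer_cen_iff {x g : G} :
    g ∈ Subgroup.normalizer (cen x : Set G) ↔ cen (g * x * g⁻¹) = cen x := by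
  rw [Subgroup.mem_normalizer_iff]
  constructor
  · intro hg
    ext u
    rw [cen_conj]
    have := hg (g⁻¹ * u * g)
    rw [show g * (g⁻¹ * u * g) * g⁻¹ = u by group] at this
    exact this
  · intro e u
    conv_rhs => rw [← e, cen_conj, show g⁻¹ * (g * u * g⁻¹) * g = u by group]

theorem pow_modEq_one {s t a b : ℕ} (hs : s.Prime) (ht : t.Prime) (hst : s ≠ t)
    (h : t ^ (a + b) ≡ t ^ a [MOD s]) : t ^ b ≡ 1 [MOD s] := by
  have hco : Nat.gcd s (t ^ a) = 1 := ((Nat.coprime_primes hs ht).2 hst).pow_right a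
  rw [pow_add] at h
  conv_rhs at h => rw [← mul_one (t ^ a)]
  exact Nat.ModEq.cancel_left_of_coprime hco h

theorem card_inf_center_qpart [Finite G] {M : Subgroup G}
    (hM : ∀ a ∈ M, ∀ b ∈ M, Commute a b) (hZ : Subgroup.center G ≤ M) {q : ℕ} (hq : q.Prime) :
    Nat.card ↥(qpart M q ⊓ Subgroup.center G) = q ^ fct q (Subgroup.center G) := by
  obtain ⟨U, hUZ, hU, hUc⟩ := exists_full hq (Subgroup.center G)
  refine le_antisymm (H34.OneSize.card_le_of_le hq
    ((isPGroup_qpart hM).to_le inf_le_left) inf_le_right) ?_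
  rw [← hUc]
  exact Subgroup.card_le_of_le
    (le_inf (fun u hu => (mem_qpart hM).2 ⟨hZ (hUZ hu), isPel_of_mem hU hu⟩) hUZ)

/-- the number of non-central classes modulo a fixed-point-free element -/
theorem fpf_congr [Finite G] {M : Subgroup G} (hM : ∀ a ∈ M, ∀ b ∈ M, Commute a b)
    (hZ : Subgroup.center G ≤ M) {s q : ℕ} (hs : s.Prime) (hq : q.Prime) (hsq : s ≠ q) {g : G}
    (hg : IsPel s g) (hn : ∀ u ∈ M, g * u * g⁻¹ ∈ M)
    (hfix : ∀ v ∈ M, IsPel q v → Commute g v → v ∈ Subgroup.center G) :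
    q ^ (fct q M - fct q (Subgroup.center G)) ≡ 1 [MOD s] := by
  have hn' : ∀ u ∈ qpart M q, g * u * g⁻¹ ∈ qpart M q := fun u hu =>
    (mem_qpart hM).2 ⟨hn u (qpart_le hu), ((mem_qpart hM).1 hu).2.conj g⟩
  have h1 := card_modEq_fixed hs hg hn'
  have e : qpart M q ⊓ cen g = qpart M q ⊓ Subgroup.center G := le_antisymm
    (fun v hv => ⟨hv.1, hfix v (qpart_le hv.1) ((mem_qpart hM).1 hv.1).2 (mem_cen.1 hv.2).symm⟩)
    (inf_le_inf_left _ (center_le_cen g))
  rw [e, card_qpart hM hq, card_inf_center_qpart hM hZ hq] at h1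
  refine pow_modEq_one hs hq hsq (a := fct q (Subgroup.center G)) ?_
  rwa [Nat.add_sub_cancel' (fct_mono hZ)]

variable {m n : ℕ} [Finite G]

namespace Hyp

variable (h : Hyp G m n) {x0 : G} (hx0 : (cen x0).index = m)
  (hab : ∀ a ∈ cen x0, ∀ b ∈ cen x0, Commute a b)
include h hx0 hab

theorem ab_cen_eq {y : G} (hy : y ∈ cen x0) (hyZ : y ∉ Subgroup.center G) : cen y = cen x0 :=
  (h.eq_of_le_E hx0 hyZ fun g hg => mem_cen.2 (hab g hg y hy)).symm

theorem ab_mem_normalizer {g y : G} (hy : y ∈ cen x0) (hyZ : y ∉ Subgroup.center G)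
    (hgy : g * y * g⁻¹ ∈ cen x0) : g ∈ Subgroup.normalizer (cen x0 : Set G) := by
  rw [mem_normalizer_cen_iff, ← cen_conj_congr (h.ab_cen_eq hx0 hab hy hyZ) g]
  exact h.ab_cen_eq hx0 hab hgy (fun e => hyZ (conj_mem_center_iff.1 e))

theorem ab_conj_E {x : G} (hx : (cen x).index = m) : ∃ g : G, cen x = cen (g * x0 * g⁻¹) := by
  set t := n.minFac
  haveI := Fact.mk (Nat.minFac_prime h.hn.ne')
  have htm : ¬ t ∣ m := h.not_dvd_m Fact.out n.minFac_dvd
  obtain ⟨P, hP⟩ := h.exists_sylow_E htm hx0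
  obtain ⟨c, hc⟩ := h.exists_conj_sylow htm hx P
  obtain ⟨w, hwt, hwZ⟩ := h.exists_pel (Fact.out : t.Prime) (n.minFac_dvd.mul_left m)
  obtain ⟨d, hd⟩ := pel_conj_mem P hwt
  have hdZ : d * w * d⁻¹ ∉ Subgroup.center G := fun e => hwZ (conj_mem_center_iff.1 e)
  have hcx : c * x * c⁻¹ ∈ cen x0 := by
    rw [← h.ab_cen_eq hx0 hab (hP hd) hdZ]
    exact mem_cen.2 (mem_cen.1 (hc hd)).symm
  have := h.ab_cen_eq hx0 hab hcx (fun e => h.ne_center_E hx (conj_mem_center_iff.1 e))
  refine ⟨c⁻¹, ?_⟩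
  rw [← cen_conj_congr this c⁻¹]
  congr 1; group

theorem ab_t_E {t : ℕ} (ht : t.Prime) (htn : t ∣ n) {u : G} (hut : IsPel t u)
    (huZ : u ∉ Subgroup.center G) : (cen u).index = m := by
  haveI := Fact.mk ht
  obtain ⟨P, hP⟩ := h.exists_sylow_E (h.not_dvd_m ht htn) hx0
  obtain ⟨c, hc⟩ := pel_conj_mem P hut
  rw [← index_cen_conj c u, h.ab_cen_eq hx0 hab (hP hc) (fun e => huZ (conj_mem_center_iff.1 e)),
    hx0]

theorem ab_F_central {t : ℕ} (ht : t.Prime) (htn : t ∣ n) {y u : G} (hy : (cen y).index = m * n)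
    (hu : u ∈ cen y) (hut : IsPel t u) : u ∈ Subgroup.center G := by
  by_contra huZ
  obtain ⟨g, hg⟩ := h.ab_conj_E hx0 hab (h.ab_t_E hx0 hab ht htn hut huZ)
  have h1 : g⁻¹ * y * g ∈ cen x0 :=
    cen_conj.1 (hg ▸ mem_cen.2 (mem_cen.1 hu).symm)
  have h2 := h.ab_cen_eq hx0 hab h1
    (fun e => h.ne_center_F hy (by simpa [mul_assoc] using (conj_mem_center_iff (g := g)).2 e))
  refine h.E_ne_F ?_ hy
  have := index_cen_conj g⁻¹ y
  rw [inv_inv, h2, hx0] at this
  exact this.symm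

theorem ab_fct_top {t : ℕ} (ht : t.Prime) (htn : t ∣ n) :
    fct t (⊤ : Subgroup G) = fct t (Subgroup.center G) + n.factorization t := by
  obtain ⟨y, hy⟩ := h.exF
  have hle : fct t (cen y) ≤ fct t (Subgroup.center G) := by
    by_contra hlt
    push Not at hlt
    obtain ⟨u, hu, hut, huZ⟩ := (fct_center_lt_iff ht (center_le_cen y)).1 hlt
    exact huZ (h.ab_F_central hx0 hab ht htn hy hu hut)
  have h1 := fct_add_index t (cen y)
  rw [hy, Nat.factorization_mul (by have := h.hm; omega) (by have := h.hn; omega),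
    Finsupp.add_apply, Nat.factorization_eq_zero_of_not_dvd (h.not_dvd_m ht htn), zero_add] at h1
  have := fct_mono (q := t) (center_le_cen y)
  omega

theorem ab_fpf {g v : G} (hg : g ∉ cen x0) (hv : v ∈ cen x0) (hc : Commute g v) :
    v ∈ Subgroup.center G := by
  by_contra hvZ
  exact hg (h.ab_cen_eq hx0 hab hv hvZ ▸ mem_cen.2 hc)

theorem ab_t_mem {t : ℕ} (ht : t.Prime) (htn : t ∣ n) {v : G} (hv : IsPel t v)
    (hvN : v ∈ Subgroup.normalizer (cen x0 : Set G)) : v ∈ cen x0 := by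
  refine qpart_le (q := t) (mem_full_of_normalizes ht (H := ⊤) (isPGroup_qpart hab) le_top ?_
    (Subgroup.mem_top v) hv fun u hu => (mem_qpart hab).2
      ⟨(Subgroup.mem_normalizer_iff.1 hvN u).1 (qpart_le hu), ((mem_qpart hab).1 hu).2.conj v⟩)
  rw [card_qpart hab ht, h.fct_E (h.not_dvd_m ht htn) hx0]

theorem ab_n_modEq {s : ℕ} (hs : s.Prime) (hsm : s ∣ m) {g : G}
    (hgN : g ∈ Subgroup.normalizer (cen x0 : Set G)) (hgs : IsPel s g) (hg : g ∉ cen x0) :
    n ≡ 1 [MOD s] := by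
  have key : ∀ t ∈ n.factorization.support, t ^ n.factorization t ≡ 1 [MOD s] := by
    intro t htsup
    obtain ⟨ht, htn, -⟩ : t.Prime ∧ t ∣ n ∧ n ≠ 0 := by
      rwa [Nat.support_factorization, Nat.mem_primeFactors] at htsup
    have h1 := fpf_congr hab (center_le_cen x0) hs ht
      (fun e => h.not_dvd_n hs hsm (e ▸ htn)) hgs
      (fun u hu => (Subgroup.mem_normalizer_iff.1 hgN u).1 hu)
      (fun v hv _ hc => h.ab_fpf hx0 hab hg hv hc)
    rwa [h.fct_E (h.not_dvd_m ht htn) hx0, h.ab_fct_top hx0 hab ht htn,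
      Nat.add_sub_cancel_left] at h1
  conv_lhs => rw [← Nat.prod_factorization_pow_eq_self (n := n) (by have := h.hn; omega)]
  exact Finset.prod_induction (fun t => t ^ n.factorization t) (fun a => a ≡ 1 [MOD s])
    (fun a b ha hb => by simpa using ha.mul hb) Nat.ModEq.rfl key

/-- the local facts at a prime dividing `m` -/
theorem ab_local {s : ℕ} (hs : s.Prime) (hsm : s ∣ m) :
    ((cen x0).relIndex (Subgroup.normalizer (cen x0 : Set G))).factorization s = 1 ∧
      (Subgroup.normalizer (cen x0 : Set G)).index.factorization s ≤ 1 ∧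
      ∃ g ∈ Subgroup.normalizer (cen x0 : Set G), IsPel s g ∧ g ∉ cen x0 := by
  haveI := Fact.mk hs
  set N := Subgroup.normalizer (cen x0 : Set G)
  have hMN : cen x0 ≤ N := Subgroup.le_normalizer
  set X := qpart (cen x0) s
  have hX : IsPGroup s X := isPGroup_qpart hab
  have hXc : Nat.card X = s ^ fct s (cen x0) := card_qpart hab hs
  obtain ⟨TN, hXTN, hTNN, hTN, hTNc⟩ := exists_full_ge hs hX ((qpart_le).trans hMN)
  obtain ⟨T, hTNT⟩ := hTN.exists_le_sylow
  have hTc : Nat.card T = s ^ fct s (⊤ : Subgroup G) := by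
    rw [T.card_eq_multiplicity, fct, Subgroup.card_top]
  have hinfN : (T : Subgroup G) ⊓ N = TN := by
    refine (Subgroup.eq_of_le_of_card_ge (le_inf hTNT hTNN) ?_).symm
    rw [hTNc]
    exact H34.OneSize.card_le_of_le hs (T.2.to_le inf_le_left) inf_le_right
  have hXmem : ∀ u ∈ (T : Subgroup G), u ∈ cen x0 → u ∈ X := fun u hu hu0 =>
    (mem_qpart hab).2 ⟨hu0, isPel_of_mem T.2 hu⟩
  obtain ⟨u, hu, hus, huZ⟩ := h.exists_s_in_cen hs hsm (h.ne_center_E hx0)
  have hXZ : ¬ X ≤ Subgroup.center G := fun e => huZ (e ((mem_qpart hab).2 ⟨hu, hus⟩))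
  -- growth
  have hXlt : fct s (cen x0) < fct s (⊤ : Subgroup G) := by
    have h1 := h.fct_m hs hsm (h.ne_center_E hx0)
    have := hs.factorization_pos_of_dvd (by have := h.hm; omega) hsm
    omega
  obtain ⟨g, hgT, hgN, hg⟩ : ∃ g ∈ (T : Subgroup G), g ∈ N ∧ g ∉ cen x0 := by
    by_contra hno
    push Not at hno
    have hTNX : TN ≤ X := fun g hg => hXmem g (hTNT hg) (hno g (hTNT hg) (hTNN hg))
    have hne : X.subgroupOf (T : Subgroup G) ≠ ⊤ := fun e => by
      have := Subgroup.card_le_of_le (Subgroup.subgroupOf_eq_top.1 e)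
      rw [hTc, hXc] at this
      exact absurd this (not_le_of_gt (Nat.pow_lt_pow_right hs.one_lt hXlt))
    haveI : Group.IsNilpotent T := T.2.isNilpotent
    obtain ⟨⟨g, hgT⟩, hgn, hgX⟩ := SetLike.exists_of_lt
      (Group.normalizerCondition_of_isNilpotent _ (lt_top_iff_ne_top.2 hne))
    obtain ⟨v, hv, hvZ⟩ := SetLike.not_le_iff_exists.1 hXZ
    have hgv : g * v * g⁻¹ ∈ X :=
      (Subgroup.mem_normalizer_iff.1 hgn ⟨v, hXTN.trans hTNT hv⟩).1 hv
    exact hgX (hTNX (hinfN ▸ ⟨hgT, h.ab_mem_normalizer hx0 hab (qpart_le hv) hvZ (qpart_le hgv)⟩))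
  have hgs : IsPel s g := isPel_of_mem T.2 hgT
  have hgTN : g ∈ TN := hinfN ▸ ⟨hgT, hgN⟩
  have hNlt : fct s (cen x0) < fct s N := by
    rcases (fct_mono (q := s) hMN).eq_or_lt with e | e
    · have := Subgroup.eq_of_le_of_card_ge hXTN (by rw [hTNc, hXc, e])
      exact absurd (qpart_le (this.symm ▸ hgTN : g ∈ X)) hg
    · exact e
  -- `X` is centralised by `TN` modulo the centre somewhere
  have hXn : ∀ u ∈ TN, ∀ v ∈ X, u * v * u⁻¹ ∈ X := fun u hu v hv => (mem_qpart hab).2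
    ⟨(Subgroup.mem_normalizer_iff.1 (hTNN hu) v).1 (qpart_le hv),
      ((mem_qpart hab).1 hv).2.conj u⟩
  obtain ⟨x, hxX, hxZ, hxs, hxc⟩ := exists_good hs hTN hXTN hXn hXZ
  have hxC := h.ab_cen_eq hx0 hab (qpart_le hxX) hxZ
  obtain ⟨t, ht, htn⟩ := Nat.exists_prime_and_dvd h.hn.ne'
  haveI := Fact.mk ht
  obtain ⟨v, hvt, hvZ⟩ := h.exists_pel ht (htn.mul_left m)
  obtain ⟨P, hP⟩ := h.exists_sylow_E (h.not_dvd_m ht htn) hx0
  obtain ⟨c, hc⟩ := pel_conj_mem P hvt
  have hgpow : g ^ s ∈ X := hXmem _ (pow_mem hgT s) (hxC ▸ pow_mem_cen (hxc g hgTN) hxs)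
  have hcard : Nat.card TN ≤ s * Nat.card X := by
    refine card_le_mul hs.pos hgpow fun g' hg' => ?_
    obtain ⟨j, hj⟩ := exists_mul_pow_mem' hab hs ht (fun e => h.not_dvd_n hs hsm (e ▸ htn))
      (g := g') (h := g) (fun a ha => (Subgroup.mem_normalizer_iff.1 (hTNN hg') a).1 ha)
      (fun a ha => (Subgroup.mem_normalizer_iff.1 hgN a).1 ha)
      (hxC ▸ pow_mem_cen (hxc g' hg') hxs) (qpart_le hgpow)
      (hxC ▸ comm_mem_cen (hxc g' hg') (hxc g hgTN)) hg
      (fun v hv _ hc => h.ab_fpf hx0 hab hg hv hc)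
      (fun j hj v hv _ hc => h.ab_fpf hx0 hab hj hv hc)
      ⟨_, hP hc, hvt.conj c, fun e => hvZ (conj_mem_center_iff.1 e)⟩
    exact ⟨j, hXmem _ (mul_mem (hTNT hg') (pow_mem hgT j)) hj⟩
  have hNle : fct s N ≤ fct s (cen x0) + 1 := by
    rw [hTNc, hXc, ← pow_succ'] at hcard
    exact (Nat.pow_le_pow_iff_right hs.one_lt).1 hcard
  have hrel : ((cen x0).relIndex N).factorization s = 1 := by
    have h1 : Nat.card N = Nat.card (cen x0) * (cen x0).relIndex N := by
      rw [← Subgroup.relIndex_bot_left, ← Subgroup.relIndex_bot_left,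
        Subgroup.relIndex_mul_relIndex _ _ _ bot_le hMN]
    have h2 := congrArg (fun k => k.factorization s) h1
    simp only [Nat.factorization_mul Nat.card_pos.ne' ((rel_ne_zero _ _)),
      Finsupp.add_apply] at h2
    have h3 : fct s N = fct s (cen x0) + ((cen x0).relIndex N).factorization s := h2
    omega
  refine ⟨hrel, ?_, g, hgN, hgs, hg⟩
  have hadd := fct_add_index s N
  rcases (fct_mono (q := s) (le_top : N ≤ ⊤)).eq_or_lt with e | hlt
  · omega
  -- a second conjugate of `cen x0` normalised by `TN`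
  have hne : TN.subgroupOf (T : Subgroup G) ≠ ⊤ := fun e => by
    have := Subgroup.card_le_of_le (Subgroup.subgroupOf_eq_top.1 e)
    rw [hTc, hTNc] at this
    exact absurd this (not_le_of_gt (Nat.pow_lt_pow_right hs.one_lt hlt))
  haveI : Group.IsNilpotent T := T.2.isNilpotent
  obtain ⟨⟨d, hdT⟩, hdn, hdTN⟩ := SetLike.exists_of_lt
    (Group.normalizerCondition_of_isNilpotent _ (lt_top_iff_ne_top.2 hne))
  have hdN : d ∉ N := fun e => hdTN (show d ∈ TN from hinfN ▸ ⟨hdT, e⟩)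
  let X' : Subgroup G := X.map (MulAut.conj d).toMonoidHom
  have hX'TN : X' ≤ TN := by
    rintro _ ⟨v, hv, rfl⟩
    exact (Subgroup.mem_normalizer_iff.1 hdn ⟨v, hXTN.trans hTNT hv⟩).1 (hXTN hv)
  have hX'c : Nat.card X' = Nat.card X :=
    Subgroup.card_map_of_injective (MulAut.conj d).injective
  have hinf : X ⊓ X' ≤ qpart (cen x0) s ⊓ Subgroup.center G := by
    rintro _ ⟨hw, v, hv, rfl⟩
    refine ⟨hw, by_contra fun hwZ => hdN ?_⟩
    exact h.ab_mem_normalizer hx0 hab (qpart_le hv) (fun e => hwZ (conj_mem_center_iff.2 e))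
      (qpart_le hw)
  have hz := card_inf_center_qpart hab (center_le_cen x0) hs
  have h4 : fct s (cen x0) ≤ fct s (Subgroup.center G) + 1 := by
    have h5 := (card_mul_card_le hXTN hX'TN).trans
      (Nat.mul_le_mul hcard (Subgroup.card_le_of_le hinf))
    rw [hX'c, hz, hXc, ← pow_succ', ← pow_add, ← pow_add, Nat.pow_le_pow_iff_right hs.one_lt] at h5
    omega
  -- an element of the second centre of `T`
  obtain ⟨w, hwT, hwZ, hws, hwc⟩ := exists_good hs T.2 le_rfl
    (fun a ha b hb => mul_mem (mul_mem ha hb) (inv_mem ha))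
    (fun e => hXZ ((hXTN.trans hTNT).trans e))
  have hDel : ∀ a ∈ (T : Subgroup G), a * x * a⁻¹ * x⁻¹ ∈ (T : Subgroup G) ⊓ cen w :=
    fun a ha => ⟨(T : Subgroup G).mul_mem ((T : Subgroup G).mul_mem
      ((T : Subgroup G).mul_mem ha (hTNT (hXTN hxX))) ((T : Subgroup G).inv_mem ha))
      ((T : Subgroup G).inv_mem (hTNT (hXTN hxX))), comm_mem_cen (hwc a ha) (hwc x (hTNT (hXTN hxX)))⟩
  classical
  set π := QuotientGroup.mk' (Subgroup.center G)
  set C := (T : Subgroup G) ⊓ cen w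
  have hCc : Nat.card (C.map π) ≤ s := by
    have h1 : Nat.card C ≤ s * Nat.card ↥(qpart (cen x0) s ⊓ Subgroup.center G) := by
      rw [hz, ← pow_succ']
      refine (H34.OneSize.card_le_of_le hs (T.2.to_le inf_le_left) inf_le_right).trans
        (Nat.pow_le_pow_right hs.pos ?_)
      show fct s (cen w) ≤ _
      rw [h.fct_eq hs hsm hwZ (h.ne_center_E hx0)]; exact h4
    have h2 : Nat.card ↥(C ⊓ Subgroup.center G) * Nat.card (C.map π) = Nat.card C := by
      rw [← Subgroup.relIndex_ker, QuotientGroup.ker_mk', ← Subgroup.inf_relIndex_left C,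
        ← Subgroup.relIndex_bot_left, ← Subgroup.relIndex_bot_left]
      exact Subgroup.relIndex_mul_relIndex _ _ _ bot_le inf_le_left
    have h6 : qpart (cen x0) s ⊓ Subgroup.center G ≤ C ⊓ Subgroup.center G := fun v hv =>
      ⟨⟨hTNT (hXTN hv.1), center_le_cen w hv.2⟩, hv.2⟩
    by_contra hlt
    push Not at hlt
    have h7 := Nat.mul_lt_mul_of_le_of_lt (Subgroup.card_le_of_le h6) hlt Nat.card_pos
    rw [h2, mul_comm] at h7
    exact absurd h1 (not_le_of_gt h7)
  have hcoset : Nat.card ((T : Subgroup G) ⧸ TN.subgroupOf (T : Subgroup G)) ≤ s := by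
    refine le_trans (Nat.card_le_card_of_injective
      (fun q => (⟨π ((q.out : G) * x * (q.out : G)⁻¹ * x⁻¹), ⟨_, hDel _ q.out.2, rfl⟩⟩ : C.map π))
      ?_) hCc
    intro a b e
    have e' : π ((a.out : G) * x * (a.out : G)⁻¹ * x⁻¹) = π ((b.out : G) * x * (b.out : G)⁻¹ * x⁻¹) :=
      congrArg Subtype.val e
    set A := (a.out : G)
    set B := (b.out : G)
    obtain ⟨z, hz', hze⟩ : ∃ z ∈ Subgroup.center G, A * x * A⁻¹ * x⁻¹ * z = B * x * B⁻¹ * x⁻¹ :=
      ⟨_, QuotientGroup.eq.1 e', mul_inv_cancel_left _ _⟩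
    have hBA : B⁻¹ * A * x * (B⁻¹ * A)⁻¹ * x⁻¹ ∈ Subgroup.center G := by
      have h1 : A * x * A⁻¹ = B * x * B⁻¹ * z⁻¹ := by
        rw [eq_mul_inv_iff_mul_eq]
        calc A * x * A⁻¹ * z = A * x * A⁻¹ * (x⁻¹ * (x * z)) := by group
          _ = A * x * A⁻¹ * x⁻¹ * z * x := by rw [Subgroup.mem_center_iff.1 hz' x]; group
          _ = B * x * B⁻¹ := by rw [hze]; group
      rw [show B⁻¹ * A * x * (B⁻¹ * A)⁻¹ * x⁻¹ = B⁻¹ * (A * x * A⁻¹) * B * x⁻¹ by group, h1]
      rw [show B⁻¹ * (B * x * B⁻¹ * z⁻¹) * B * x⁻¹ = x * B⁻¹ * z⁻¹ * B * x⁻¹ by group,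
        mul_assoc (x * B⁻¹), ← Subgroup.mem_center_iff.1 (inv_mem hz') B,
        show x * B⁻¹ * (B * z⁻¹) * x⁻¹ = x * z⁻¹ * x⁻¹ by group]
      exact (inferInstance : (Subgroup.center G).Normal).conj_mem _ (inv_mem hz') x
    have hBAT : B⁻¹ * A ∈ (T : Subgroup G) := mul_mem (inv_mem b.out.2) a.out.2
    have hmem : B⁻¹ * A ∈ TN := hinfN ▸ ⟨hBAT, mem_normalizer_cen_iff.2 (by
      rw [← cen_conj_congr hxC, cen_conj_eq_of_central hBA, hxC])⟩
    rw [← QuotientGroup.out_eq' a, ← QuotientGroup.out_eq' b]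
    exact (QuotientGroup.eq.2
      (show b.out⁻¹ * a.out ∈ TN.subgroupOf (T : Subgroup G) from hmem)).symm
  rw [← Subgroup.index_eq_card] at hcoset
  have h8 : Nat.card (TN.subgroupOf (T : Subgroup G)) * (TN.subgroupOf (T : Subgroup G)).index =
      Nat.card T := Subgroup.card_mul_index _
  rw [Nat.card_congr (Subgroup.subgroupOfEquivOfLe hTNT).toEquiv, hTNc, hTc] at h8
  have h9 : s ^ fct s (⊤ : Subgroup G) ≤ s ^ (fct s N + 1) := by
    rw [← h8, pow_succ]; exact Nat.mul_le_mul_left _ hcoset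
  have := (Nat.pow_le_pow_iff_right hs.one_lt).1 h9
  omega

theorem ab_orbit {t : ℕ} (ht : t.Prime) (htn : t ∣ n) :
    t ^ n.factorization t ∣ (Subgroup.normalizer (cen x0 : Set G)).index - 1 := by
  classical
  haveI := Fact.mk ht
  set N := Subgroup.normalizer (cen x0 : Set G)
  set W := qpart (cen x0) t
  have hWN : W ≤ N := (qpart_le).trans Subgroup.le_normalizer
  have hstab : ∀ c : G ⧸ N, c ≠ ((1 : G) : G ⧸ N) →
      MulAction.stabilizer W c = (W ⊓ Subgroup.center G).subgroupOf W := by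
    intro c hc
    induction c using QuotientGroup.induction_on with
    | _ g =>
    have hgN : g ∉ N := fun e => hc (QuotientGroup.eq.2 (by simpa using N.inv_mem e))
    ext ⟨w, hw⟩
    rw [MulAction.mem_stabilizer_iff]
    show (((w * g : G)) : G ⧸ N) = (g : G ⧸ N) ↔ w ∈ W ⊓ Subgroup.center G
    rw [QuotientGroup.eq]
    constructor
    · intro e
      refine ⟨hw, by_contra fun hwZ => hgN ?_⟩
      have e' : g⁻¹ * w * g ∈ N := by
        have := N.inv_mem e
        rwa [show ((w * g)⁻¹ * g)⁻¹ = g⁻¹ * w * g by group] at this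
      have hv : IsPel t (g⁻¹ * w * g) := by simpa using ((mem_qpart hab).1 hw).2.conj g⁻¹
      exact h.ab_mem_normalizer hx0 hab (h.ab_t_mem hx0 hab ht htn hv e')
        (fun e'' => hwZ (by
          have := (conj_mem_center_iff (g := g)).2 e''
          rwa [show g * (g⁻¹ * w * g) * g⁻¹ = w by group] at this))
        (by simpa [mul_assoc] using qpart_le hw)
    · intro hwz
      have : (w * g)⁻¹ * g = w⁻¹ := by
        rw [← Subgroup.mem_center_iff.1 hwz.2 g]; group
      rw [this]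
      exact N.inv_mem (hWN hw)
  have hcard : ∀ c : G ⧸ N, c ≠ ((1 : G) : G ⧸ N) →
      Nat.card (MulAction.orbit W c) = t ^ n.factorization t := by
    intro c hc
    rw [Nat.card_congr (MulAction.orbitEquivQuotientStabilizer W c), hstab c hc,
      ← Subgroup.index_eq_card]
    show (W ⊓ Subgroup.center G).relIndex W = _
    have h1 : Nat.card W = Nat.card ↥(W ⊓ Subgroup.center G) *
        (W ⊓ Subgroup.center G).relIndex W := by
      rw [← Subgroup.relIndex_bot_left, ← Subgroup.relIndex_bot_left,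
        Subgroup.relIndex_mul_relIndex _ _ _ bot_le inf_le_left]
    rw [card_inf_center_qpart hab (center_le_cen x0) ht, card_qpart hab ht,
      h.fct_E (h.not_dvd_m ht htn) hx0, h.ab_fct_top hx0 hab ht htn, pow_add] at h1
    exact (Nat.eq_of_mul_eq_mul_left (Nat.pow_pos ht.pos) h1).symm
  haveI : Fintype (Quotient (MulAction.orbitRel W (G ⧸ N))) := Fintype.ofFinite _
  set c1 : G ⧸ N := ((1 : G) : G ⧸ N)
  have hfix : ∀ w : W, w • c1 = c1 := fun w => by
    show (((w : G) * 1 : G) : G ⧸ N) = ((1 : G) : G ⧸ N)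
    rw [mul_one, QuotientGroup.eq, mul_one]
    exact N.inv_mem (hWN w.2)
  have hsum : Nat.card (G ⧸ N) = ∑ q : Quotient (MulAction.orbitRel W (G ⧸ N)),
      Nat.card (MulAction.orbit W q.out) := by
    rw [Nat.card_congr (MulAction.selfEquivSigmaOrbits W (G ⧸ N)), Nat.card_sigma]
  rw [Subgroup.index_eq_card, hsum, ← Finset.add_sum_erase _ _
    (Finset.mem_univ (Quotient.mk'' c1 : Quotient (MulAction.orbitRel W (G ⧸ N))))]
  have h1 : Nat.card (MulAction.orbit W
      (Quotient.mk'' c1 : Quotient (MulAction.orbitRel W (G ⧸ N))).out) = 1 := by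
    have hrel := Quotient.mk_out (s := MulAction.orbitRel W (G ⧸ N)) c1
    rw [MulAction.orbitRel_apply] at hrel
    rw [show (Quotient.mk'' c1 : Quotient (MulAction.orbitRel W (G ⧸ N))).out = c1 by
      obtain ⟨w, hw⟩ := hrel
      exact hw.symm.trans (hfix w)]
    rw [Nat.card_eq_one_iff_unique]
    exact ⟨⟨fun a b => Subtype.ext (by
      obtain ⟨w, hw⟩ := a.2; obtain ⟨w', hw'⟩ := b.2
      exact hw.symm.trans ((hfix w).trans ((hfix w').symm.trans hw')))⟩,
      ⟨⟨c1, MulAction.mem_orbit_self c1⟩⟩⟩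
  rw [h1, Nat.add_sub_cancel_left]
  refine Finset.dvd_sum fun q hq => ?_
  rw [hcard]
  intro e
  refine (Finset.mem_erase.1 hq).1 ?_
  rw [← Quotient.out_eq' q, e]

theorem ab_normal : Subgroup.normalizer (cen x0 : Set G) = ⊤ := by
  set N := Subgroup.normalizer (cen x0 : Set G)
  set k := (cen x0).relIndex N
  have hkm : k * N.index = m :=
    (Subgroup.relIndex_mul_index Subgroup.le_normalizer).trans hx0
  have hm0 : m ≠ 0 := by have := h.hm; omega
  have hk0 : k ≠ 0 := fun e => hm0 (by rw [← hkm, e, zero_mul])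
  have hn1 : n - 1 ≠ 0 := by have := h.hn; omega
  have hfac : ∀ q, q ∈ m.primeFactors → k.factorization q = 1 ∧
      N.index.factorization q ≤ 1 ∧ q ∣ n - 1 := by
    intro q hq
    obtain ⟨hq, hqm, -⟩ := Nat.mem_primeFactors.1 hq
    obtain ⟨h1, h2, g, hgN, hgs, hg⟩ := h.ab_local hx0 hab hq hqm
    exact ⟨h1, h2, (Nat.modEq_iff_dvd' h.hn.le).1 (h.ab_n_modEq hx0 hab hq hqm hgN hgs hg).symm⟩
  have hout : ∀ q, q ∉ m.primeFactors → k.factorization q = 0 ∧ N.index.factorization q = 0 := by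
    intro q hq
    have h0 : m.factorization q = 0 := Finsupp.notMem_support_iff.1 (by
      rwa [Nat.support_factorization])
    rw [← hkm, Nat.factorization_mul hk0 Subgroup.index_ne_zero_of_finite,
      Finsupp.add_apply] at h0
    omega
  have hi : N.index ∣ k := (Nat.factorization_le_iff_dvd Subgroup.index_ne_zero_of_finite hk0).1
    fun q => by
      by_cases hq : q ∈ m.primeFactors
      · rw [(hfac q hq).1]; exact (hfac q hq).2.1
      · rw [(hout q hq).2]; exact Nat.zero_le _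
  have hk : k ∣ n - 1 := (Nat.factorization_le_iff_dvd hk0 hn1).1 fun q => by
    by_cases hq : q ∈ m.primeFactors
    · rw [(hfac q hq).1]
      exact (Nat.mem_primeFactors.1 hq).1.factorization_pos_of_dvd hn1 (hfac q hq).2.2
    · rw [(hout q hq).1]; exact Nat.zero_le _
  have hle : N.index ≤ n - 1 := Nat.le_of_dvd (by omega) (hi.trans hk)
  refine Subgroup.index_eq_one.1 (by_contra fun hne => ?_)
  have hpos : 0 < N.index := Nat.pos_of_ne_zero Subgroup.index_ne_zero_of_finite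
  have hnd : n ∣ N.index - 1 := by
    refine (Nat.factorization_le_iff_dvd (by have := h.hn; omega) (by omega)).1 fun t => ?_
    by_cases ht : t ∈ n.primeFactors
    · obtain ⟨ht, htn, -⟩ := Nat.mem_primeFactors.1 ht
      exact (ht.pow_dvd_iff_le_factorization (by omega)).1 (h.ab_orbit hx0 hab ht htn)
    · rw [Finsupp.notMem_support_iff.1 (by rwa [Nat.support_factorization] : t ∉ n.factorization.support)]
      exact Nat.zero_le _
  have := Nat.le_of_dvd (by omega) hnd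
  omega

theorem ab_sylow {s : ℕ} (hs : s.Prime) (hsm : s ∣ m) :
    m.factorization s = 1 ∧ fct s (cen x0) = fct s (Subgroup.center G) + 1 ∧
      ∃ g : G, IsPel s g ∧ g ∉ cen x0 := by
  obtain ⟨h1, -, g, -, hgs, hg⟩ := h.ab_local hx0 hab hs hsm
  have hN := h.ab_normal hx0 hab
  rw [hN, Subgroup.relIndex_top_right, hx0] at h1
  refine ⟨h1, le_antisymm ?_ ?_, g, hgs, hg⟩
  · haveI : (cen x0).Normal := Subgroup.normalizer_eq_top_iff.1 hN
    have hgZ : g ∉ Subgroup.center G := fun e => hg (center_le_cen x0 e)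
    obtain ⟨U, hUg, hU, hUc⟩ := exists_full hs (cen g)
    have h2 : Nat.card U = Nat.card ↥(U ⊓ cen x0) * (cen x0).relIndex U := by
      rw [← Subgroup.inf_relIndex_left U, ← Subgroup.relIndex_bot_left,
        ← Subgroup.relIndex_bot_left, Subgroup.relIndex_mul_relIndex _ _ _ bot_le inf_le_left]
    have h3 : fct s (U ⊓ cen x0) ≤ fct s (Subgroup.center G) := fct_mono fun u hu =>
      h.ab_fpf hx0 hab hg hu.2 (mem_cen.1 (hUg hu.1)).symm
    have h4 : ((cen x0).relIndex U).factorization s ≤ 1 := by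
      rw [← h1]
      exact (Nat.factorization_le_iff_dvd (rel_ne_zero _ _)
        (by have := h.hm; omega)).2 (hx0 ▸ Subgroup.relIndex_dvd_index_of_normal _ _) s
    have h5 := congrArg (fun k => k.factorization s) h2
    simp only [Nat.factorization_mul Nat.card_pos.ne' (rel_ne_zero _ _),
      Finsupp.add_apply, hUc, hs.factorization_pow, Finsupp.single_eq_same] at h5
    rw [h.fct_eq hs hsm hgZ (h.ne_center_E hx0)] at h5
    simp only [fct] at h3 h5 ⊢
    omega
  · exact (fct_center_lt_iff hs (center_le_cen x0)).2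
      (h.exists_s_in_cen hs hsm (h.ne_center_E hx0))

/-- the structure -/
theorem ab_prime : m.Prime ∧ m ∣ n - 1 ∧ (cen x0).Normal := by
  have hN := h.ab_normal hx0 hab
  have hnrm : (cen x0).Normal := Subgroup.normalizer_eq_top_iff.1 hN
  have key : ∀ r s : ℕ, r.Prime → r ∣ m → s.Prime → s ∣ m → r ≠ s → r ∣ s - 1 := by
    intro r s hr hrm hs hsm hrs
    obtain ⟨-, -, g, hgs, hg⟩ := h.ab_sylow hx0 hab hr hrm
    have h1 := fpf_congr hab (center_le_cen x0) hr hs hrs hgs
      (fun u hu => hnrm.conj_mem u hu g) (fun v hv _ hc => h.ab_fpf hx0 hab hg hv hc)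
    rw [(h.ab_sylow hx0 hab hs hsm).2.1, Nat.add_sub_cancel_left, pow_one] at h1
    exact (Nat.modEq_iff_dvd' hs.one_le).1 h1.symm
  obtain ⟨s, hs, hsm⟩ := Nat.exists_prime_and_dvd h.hm.ne'
  have hone : ∀ r, r.Prime → r ∣ m → r = s := by
    intro r hr hrm
    by_contra hrs
    have h1 := Nat.le_of_dvd (by have := hs.two_le; omega) (key r s hr hrm hs hsm hrs)
    have h2 := Nat.le_of_dvd (by have := hr.two_le; omega) (key s r hs hsm hr hrm (Ne.symm hrs))
    have := hs.two_le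
    omega
  have hms : m = s := by
    have h1 := Nat.eq_prime_pow_of_unique_prime_dvd (n := m) (p := s) (by have := h.hm; omega)
      (fun hd hdm => hone _ hd hdm)
    have h2 := (h.ab_sylow hx0 hab hs hsm).1
    have hlen : m.primeFactorsList.length = 1 := by
      rw [h1, hs.factorization_pow, Finsupp.single_eq_same] at h2
      exact h2
    rw [h1, hlen, pow_one]
  refine ⟨hms ▸ hs, ?_, hnrm⟩
  obtain ⟨-, -, g, hgs, hg⟩ := h.ab_sylow hx0 hab hs hsm
  rw [hms]
  exact (Nat.modEq_iff_dvd' h.hn.le).1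
    (h.ab_n_modEq hx0 hab hs hsm (hN ▸ Subgroup.mem_top g) hgs hg).symm

end Hyp

end Cfsg.Agent.H42.Camina
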