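import Cfsg.Agent.H42.Camina.Abelian

/-!
Class sizes `1, m, m * n`: the structure when some centraliser of index `m` is abelian.
-/

set_option autoImplicit false
set_option linter.style.haveILetI false

namespace Cfsg.Agent.H42.Camina

open Subgroup
open Cfsg.Agent.H34.OneSize (cen mem_cen cen_conj IsPel mem_of_parts isPel_of_mem)

variable {G : Type*} [Group G] [Finite G] {m n : ℕ}

/-- the elements of order prime to `p` of an abelian subgroup -/
def copart (M : Subgroup G) (p : ℕ) : Subgroup G :=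
  Subgroup.closure {x | x ∈ M ∧ (orderOf x).Coprime p}

theorem mem_copart {M : Subgroup G} (hM : ∀ a ∈ M, ∀ b ∈ M, Commute a b) {p : ℕ} {x : G} :
    x ∈ copart M p ↔ x ∈ M ∧ (orderOf x).Coprime p := by
  refine ⟨fun hx => ?_, fun hx => Subgroup.subset_closure hx⟩
  refine Subgroup.closure_induction (p := fun y _ => y ∈ M ∧ (orderOf y).Coprime p) (fun _ h => h)
    ⟨M.one_mem, by rw [orderOf_one]; exact Nat.coprime_one_left p⟩ ?_ ?_ hx
  · exact fun a b _ _ ha hb => ⟨M.mul_mem ha.1 hb.1, Nat.Coprime.coprime_dvd_left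
      (hM a ha.1 b hb.1).orderOf_mul_dvd_mul_orderOf (Nat.Coprime.mul_left ha.2 hb.2)⟩
  · exact fun a _ ha => ⟨M.inv_mem ha.1, by rw [orderOf_inv]; exact ha.2⟩

namespace Hyp

theorem structure_of_ab (h : Hyp G m n) (hab' : HasAb G m) :
    m.Prime ∧ m ∣ n - 1 ∧ (∃ M : Subgroup G, M.Normal ∧ (M : Set G) =
      {x : G | (Subgroup.centralizer ({x} : Set G)).index = 1 ∨
        (Subgroup.centralizer ({x} : Set G)).index = m} ∧ M.index = m ∧ IsMulCommutative M) ∧
    (∃ N : Subgroup G, N.Normal ∧ (Nat.card N).Coprime m ∧ ∃ a : ℕ, N.index = m ^ a) ∧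
    ∀ P : Sylow m G, Nat.card (commutator (P : Subgroup G)) = m := by
  obtain ⟨x0, hx0, hab⟩ := hab'
  obtain ⟨hp, hdvd, hnrm⟩ := h.ab_prime hx0 hab
  haveI := Fact.mk hp
  haveI := hnrm
  refine ⟨hp, hdvd, ⟨cen x0, hnrm, ?_, hx0, ⟨⟨fun a b => Subtype.ext (hab _ a.2 _ b.2).eq⟩⟩⟩,
    ⟨copart (cen x0) m, ?_, ?_, ?_⟩, fun P => ?_⟩
  · ext y
    simp only [SetLike.mem_coe, Set.mem_setOf_eq]
    constructor
    · intro hy
      by_cases hyZ : y ∈ Subgroup.center G
      · exact Or.inl (mem_center_iff_index.2 hyZ)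
      · exact Or.inr ((congrArg Subgroup.index (h.ab_cen_eq hx0 hab hy hyZ)).trans hx0)
    · rintro (hy | hy)
      · exact center_le_cen x0 (mem_center_iff_index.1 hy)
      · obtain ⟨g, hg⟩ := h.ab_conj_E hx0 hab hy
        have hgN : cen (g * x0 * g⁻¹) = cen x0 :=
          mem_normalizer_cen_iff.1 (h.ab_normal hx0 hab ▸ Subgroup.mem_top g)
        exact hgN ▸ hg ▸ mem_cen_self y
  · refine ⟨fun a ha g => (mem_copart hab).2 ⟨hnrm.conj_mem a ((mem_copart hab).1 ha).1 g, ?_⟩⟩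
    rw [← MulAut.conj_apply, MulEquiv.orderOf_eq]
    exact ((mem_copart hab).1 ha).2
  · by_contra hcop
    obtain ⟨q, hq, hq1, hq2⟩ := Nat.Prime.not_coprime_iff_dvd.1 hcop
    haveI := Fact.mk hq
    obtain ⟨a, ha⟩ := exists_prime_orderOf_dvd_card' q hq1
    have := ((mem_copart hab).1 a.2).2
    rw [Subgroup.orderOf_coe, ha] at this
    exact hq.one_lt.ne' (Nat.eq_one_of_dvd_coprimes this dvd_rfl hq2)
  · refine ⟨_, Nat.eq_prime_pow_of_unique_prime_dvd Subgroup.index_ne_zero_of_finite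
      (fun {q} hq hqd => by_contra fun hqp => ?_)⟩
    haveI := Fact.mk hq
    obtain ⟨Q⟩ : Nonempty (Sylow q G) := inferInstance
    refine not_dvd_index_of_sylow_le Q (H := copart (cen x0) m) (fun u hu => ?_) hqd
    obtain ⟨k, hk⟩ := isPel_of_mem Q.2 hu
    have hco : (orderOf u).Coprime m :=
      Nat.Coprime.coprime_dvd_left (orderOf_dvd_of_pow_eq_one hk)
        (((Nat.coprime_primes hq hp).2 hqp).pow_left k)
    refine (mem_copart hab).2 ⟨?_, hco⟩
    have h1 := Subgroup.pow_index_mem (cen x0) u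
    rw [hx0] at h1
    obtain ⟨j, hj⟩ := exists_pow_eq_self_of_coprime (x := u) (n := m) hco.symm
    exact hj ▸ pow_mem h1 j
  -- the derived group of a Sylow subgroup
  obtain ⟨hm1, hXc1, -⟩ := h.ab_sylow hx0 hab hp dvd_rfl
  set X := qpart (cen x0) m
  haveI : X.Normal := ⟨fun a ha g => (mem_qpart hab).2
    ⟨hnrm.conj_mem a (qpart_le ha) g, ((mem_qpart hab).1 ha).2.conj g⟩⟩
  have hXP : X ≤ (P : Subgroup G) := (isPGroup_qpart hab).le_sylow_of_normal P
  have hXc : Nat.card X = m ^ (fct m (Subgroup.center G) + 1) := by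
    rw [card_qpart hab hp, hXc1]
  have hPc : Nat.card P = m ^ (fct m (Subgroup.center G) + 2) := by
    rw [P.card_eq_multiplicity]
    congr 1
    have h1 := h.fct_m hp dvd_rfl (h.ne_center_E hx0)
    rw [hm1, hXc1] at h1
    simp only [fct, Subgroup.card_top] at h1 ⊢
    omega
  obtain ⟨y, hyP, hyX⟩ : ∃ y ∈ (P : Subgroup G), y ∉ X := by
    by_contra hno
    push Not at hno
    have := Subgroup.card_le_of_le (hno : (P : Subgroup G) ≤ X)
    rw [hPc, hXc, Nat.pow_le_pow_iff_right hp.one_lt] at this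
    omega
  have hy0 : y ∉ cen x0 := fun e => hyX ((mem_qpart hab).2 ⟨e, isPel_of_mem P.2 hyP⟩)
  have hXZ : ¬ X ≤ Subgroup.center G := by
    obtain ⟨u, hu, hus, huZ⟩ := h.exists_s_in_cen hp dvd_rfl (h.ne_center_E hx0)
    exact fun e => huZ (e ((mem_qpart hab).2 ⟨hu, hus⟩))
  obtain ⟨x, hxX, hxZ, hxm, hxc⟩ := exists_good hp P.2 hXP
    (fun g _ a ha => (inferInstance : X.Normal).conj_mem a ha g) hXZ
  set c := y * x * y⁻¹ * x⁻¹ with hc
  have hcZ : c ∈ Subgroup.center G := hxc y hyP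
  have hcP : c ∈ (P : Subgroup G) :=
    (P : Subgroup G).mul_mem ((P : Subgroup G).mul_mem ((P : Subgroup G).mul_mem hyP (hXP hxX))
      ((P : Subgroup G).inv_mem hyP)) ((P : Subgroup G).inv_mem (hXP hxX))
  have hc1 : c ≠ 1 := fun e => hxZ (h.ab_fpf hx0 hab hy0 (qpart_le hxX)
    (mul_inv_eq_iff_eq_mul.1 (mul_inv_eq_one.1 e)))
  have hcm : c ^ m = 1 := by
    have h1 := H34.OneSize.conj_pow_of_central' hcZ m
    rw [Subgroup.mem_center_iff.1 hxm y, mul_inv_cancel_right] at h1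
    exact mul_eq_left.1 h1.symm
  have hco : orderOf c = m := orderOf_eq_prime hcm hc1
  haveI : (Subgroup.zpowers c).Normal := ⟨fun a ha g => by
    rwa [Subgroup.mem_center_iff.1 ((Subgroup.zpowers_le.2 hcZ) ha) g, mul_inv_cancel_right]⟩
  set ρ := QuotientGroup.mk' (Subgroup.zpowers c)
  -- `x`, `y` and central elements generate
  set Z1 := X ⊓ Subgroup.center G
  set U := Subgroup.zpowers x ⊔ Z1
  have hUX : U = X := by
    have hle : U ≤ X := sup_le (Subgroup.zpowers_le.2 hxX) inf_le_left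
    refine Subgroup.eq_of_le_of_card_ge hle ?_
    obtain ⟨j, hj⟩ := IsPGroup.iff_card.1 ((isPGroup_qpart hab).to_le hle)
    rw [hXc, hj]
    refine Nat.pow_le_pow_right hp.pos ?_
    by_contra hlt
    push Not at hlt
    have h2 : Nat.card U ≤ Nat.card Z1 := by
      rw [hj, card_inf_center_qpart hab (center_le_cen x0) hp]
      exact Nat.pow_le_pow_right hp.pos (by omega)
    have h3 := Subgroup.eq_of_le_of_card_ge (le_sup_right : Z1 ≤ U) h2
    exact hxZ (h3.symm ▸ Subgroup.mem_sup_left (Subgroup.mem_zpowers x) : x ∈ Z1).2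
  have hPgen : (P : Subgroup G) = Subgroup.zpowers y ⊔ U := by
    rw [hUX]
    refine (Subgroup.eq_of_le_of_card_ge (sup_le (Subgroup.zpowers_le.2 hyP) hXP) ?_).symm
    obtain ⟨j, hj⟩ := IsPGroup.iff_card.1
      (P.2.to_le (sup_le (Subgroup.zpowers_le.2 hyP) hXP) : IsPGroup m ↥(Subgroup.zpowers y ⊔ X))
    have h2 : Nat.card X < Nat.card ↥(Subgroup.zpowers y ⊔ X) := by
      refine lt_of_le_of_ne (Subgroup.card_le_of_le le_sup_right) fun e => hyX ?_
      exact (Subgroup.eq_of_le_of_card_ge (le_sup_right : X ≤ Subgroup.zpowers y ⊔ X) e.ge).symm ▸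
        Subgroup.mem_sup_left (Subgroup.mem_zpowers y)
    rw [hXc, hj, Nat.pow_lt_pow_iff_right hp.one_lt] at h2
    rw [hPc, hj]
    exact Nat.pow_le_pow_right hp.pos (by omega)
  let A : G → Subgroup G := fun b => (Subgroup.centralizer ({ρ b} : Set _)).comap ρ
  have hA : ∀ a b : G, a ∈ A b ↔ ρ a * ρ b = ρ b * ρ a := fun a b =>
    Subgroup.mem_comap.trans Subgroup.mem_centralizer_singleton_iff
  have hle : ∀ b : G, y ∈ A b → x ∈ A b → Z1 ≤ A b → (P : Subgroup G) ≤ A b := fun b h1 h2 h3 =>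
    hPgen.trans_le (sup_le (Subgroup.zpowers_le.2 h1) (sup_le (Subgroup.zpowers_le.2 h2) h3))
  have hzA : ∀ b : G, Z1 ≤ A b := fun b z hz => (hA z b).2 (by
    rw [← map_mul, ← map_mul, Subgroup.mem_center_iff.1 hz.2 b])
  have hyx : ρ y * ρ x = ρ x * ρ y := by
    have h1 : ρ (y * x * y⁻¹ * x⁻¹) = 1 :=
      (QuotientGroup.eq_one_iff (N := Subgroup.zpowers c) _).2 (Subgroup.mem_zpowers c)
    rw [map_mul, map_mul, map_mul, map_inv, map_inv, mul_inv_eq_one,
      mul_inv_eq_iff_eq_mul] at h1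
    exact h1
  have hax : (P : Subgroup G) ≤ A x := hle x ((hA y x).2 hyx) ((hA x x).2 rfl) (hzA x)
  have hay : (P : Subgroup G) ≤ A y := hle y ((hA y y).2 rfl) ((hA x y).2 hyx.symm) (hzA y)
  have hall : ∀ a ∈ (P : Subgroup G), ∀ b ∈ (P : Subgroup G), ρ a * ρ b = ρ b * ρ a := fun a ha b hb =>
    (hA a b).1 (hle b ((hA y b).2 ((hA b y).1 (hay hb)).symm) ((hA x b).2 ((hA b x).1 (hax hb)).symm)
      (hzA b) ha)
  have heq : commutator (P : Subgroup G) = Subgroup.zpowers (⟨c, hcP⟩ : (P : Subgroup G)) := by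
    rw [_root_.commutator_def]
    refine le_antisymm (Subgroup.commutator_le.2 fun a _ b _ => ?_) ?_
    · have h1 : ρ ((a : G) * b * (a : G)⁻¹ * (b : G)⁻¹) = 1 := by
        rw [map_mul, map_mul, map_mul, map_inv, map_inv, hall a a.2 b b.2]
        group
      obtain ⟨i, hi⟩ := Subgroup.mem_zpowers_iff.1 ((QuotientGroup.eq_one_iff _).1 h1)
      refine Subgroup.mem_zpowers_iff.2 ⟨i, Subtype.ext ?_⟩
      push_cast
      rw [commutatorElement_def]
      exact hi
    · rw [Subgroup.zpowers_le]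
      have := Subgroup.commutator_mem_commutator (Subgroup.mem_top (⟨y, hyP⟩ : (P : Subgroup G)))
        (Subgroup.mem_top (⟨x, hXP hxX⟩ : (P : Subgroup G)))
      rw [commutatorElement_def] at this
      exact this
  rw [heq, Nat.card_zpowers, Subgroup.orderOf_mk, hco]

end Hyp

end Cfsg.Agent.H42.Camina
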