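import Cfsg.Agent.H42.Camina.Many
import Cfsg.Agent.H42.Camina.Abelian
import Cfsg.Agent.Hall.ClassSizes

/-!
Class sizes `1, m, p ^ b * m` without abelian centraliser of index `m`: all elements of prime
power order and class size `m` are `p`-elements.
-/

set_option autoImplicit false
set_option linter.style.haveILetI false

namespace Cfsg.Agent.H42.Camina

open Subgroup
open Cfsg.Agent.H34.OneSize (cen mem_cen cen_conj IsPel mem_of_parts isPel_of_mem)

variable {G : Type*} [Group G] [Finite G] {m n : ℕ}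

namespace Hyp

variable (h : Hyp G m n)
include h

/-- an abelian `p`-complement of the centraliser of a `p`-element of class size `m` -/
theorem exists_complement {p b : ℕ} (hp : p.Prime) (hn : n = p ^ b) {a : G} (hap : IsPel p a)
    (ha : (cen a).index = m) :
    ∃ B : Subgroup G, B ≤ cen a ∧ (∀ x ∈ B, ∀ y ∈ B, Commute x y) ∧ ¬ p ∣ Nat.card B ∧
      ∃ k : ℕ, Nat.card (cen a) = Nat.card B * p ^ k := by
  haveI := Fact.mk hp
  have hreg : Hall.RegularClassesPPower p (cen a) := by
    intro y hy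
    rw [← Subgroup.orderOf_coe] at hy
    obtain ⟨k, hk⟩ := hap
    have hco : (orderOf a).Coprime (orderOf (y : G)) :=
      Nat.Coprime.coprime_dvd_left (orderOf_dvd_of_pow_eq_one hk) (hy.symm.pow_left k)
    show ∃ k, (cen y).index = p ^ k
    rw [cen_subgroup y]
    show ∃ k, (cen (y : G)).relIndex (cen a) = p ^ k
    rcases h.relIndex_cen ha (mem_cen.1 y.2).symm hco with e | e
    · exact ⟨0, by rw [e, pow_zero]⟩
    · exact ⟨b, by rw [e, hn]⟩
  obtain ⟨B, hB, hpB, k, hk⟩ := Hall.exists_abelian_complement hp hreg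
  refine ⟨B.map (cen a).subtype, Subgroup.map_subtype_le _, ?_, ?_, k, ?_⟩
  · rintro _ ⟨x, hx, rfl⟩ _ ⟨y, hy, rfl⟩
    exact congrArg Subtype.val (congrArg Subtype.val (hB.is_comm.comm ⟨x, hx⟩ ⟨y, hy⟩))
  · rwa [Subgroup.card_map_of_injective (Subgroup.subtype_injective _)]
  · rw [Subgroup.card_map_of_injective (Subgroup.subtype_injective _), ← hk, B.card_mul_index]

/-- elements of prime power order and class size `m` have the prime `p` -/
theorem pel_E_eq (hno : ¬ HasAb G m) {p b : ℕ} (hp : p.Prime) (hn : n = p ^ b) {w : G} {q : ℕ}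
    (hq : q.Prime) (hqw : IsPel q w) (hw : (cen w).index = m) : q = p := by
  by_contra hqp
  haveI := Fact.mk hp
  have hpn : p ∣ n := by
    obtain ⟨t, ht, htn⟩ := Nat.exists_prime_and_dvd h.hn.ne'
    rw [hn] at htn
    rw [← (Nat.prime_dvd_prime_iff_eq ht hp).1 (ht.dvd_of_dvd_pow htn)]
    rw [hn]; exact htn
  have hpm : ¬ p ∣ m := h.not_dvd_m hp hpn
  obtain ⟨a, hap, ha, haH⟩ := h.exists_partner hq hqw hw hp hpn hqp
  set H := cen w with hHdef
  obtain ⟨B, hBH, hBc, hpB, k, hk⟩ := h.exists_complement hp hn hap ha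
  rw [haH] at hBH hk
  obtain ⟨P, hP⟩ := h.exists_sylow_E hpm hw
  have hfB : ∀ r, r.Prime → r ≠ p → fct r H = fct r B := by
    intro r hr hrp
    rw [fct, fct, hk, Nat.factorization_mul Nat.card_pos.ne' (pow_ne_zero _ hp.ne_zero),
      Finsupp.add_apply, hp.factorization_pow, Finsupp.single_eq_of_ne hrp, add_zero]
  have hpB' : ∀ x ∈ B, IsPel p x → x = 1 := by
    intro x hx ⟨j, hj⟩
    by_contra hx1
    obtain ⟨i, -, hi⟩ := (Nat.dvd_prime_pow hp).1 (orderOf_dvd_of_pow_eq_one hj)
    obtain ⟨i', rfl⟩ := Nat.exists_eq_succ_of_ne_zero (n := i) (fun e => hx1 (by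
      rw [e, pow_zero] at hi; exact orderOf_eq_one_iff.1 hi))
    exact hpB ((hi ▸ dvd_pow_self p (Nat.succ_ne_zero i')).trans (B.orderOf_dvd_natCard hx))
  -- `H = B P`
  have hdec : ∀ x ∈ H, ∃ b ∈ B, ∃ π ∈ (P : Subgroup G), x = b * π := by
    have hpow : k = fct p H := by
      rw [fct, hk, Nat.factorization_mul Nat.card_pos.ne' (pow_ne_zero _ hp.ne_zero),
        Finsupp.add_apply, hp.factorization_pow, Finsupp.single_eq_same,
        Nat.factorization_eq_zero_of_not_dvd hpB, zero_add]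
    have hcard : Nat.card (B × (P : Subgroup G)) = Nat.card H := by
      rw [Nat.card_prod, hk, P.card_eq_multiplicity, hpow, h.fct_E hpm hw, fct, Subgroup.card_top]
    let f : B × (P : Subgroup G) → H := fun z => ⟨z.1 * z.2, H.mul_mem (hBH z.1.2) (hP z.2.2)⟩
    have hinj : Function.Injective f := by
      intro y z e
      have e' : (y.1 : G) * y.2 = z.1 * z.2 := congrArg Subtype.val e
      have e2 : (z.1 : G)⁻¹ * y.1 = z.2 * (y.2 : G)⁻¹ := by
        rw [eq_mul_inv_iff_mul_eq, mul_assoc, e', inv_mul_cancel_left]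
      have h1 := hpB' _ (B.mul_mem (B.inv_mem z.1.2) y.1.2)
        (e2 ▸ isPel_of_mem P.2 ((P : Subgroup G).mul_mem z.2.2 ((P : Subgroup G).inv_mem y.2.2)))
      refine Prod.ext (Subtype.ext (inv_mul_eq_one.1 h1).symm) (Subtype.ext ?_)
      rw [e2] at h1
      exact (mul_inv_eq_one.1 h1).symm
    intro x hx
    obtain ⟨z, hz⟩ := ((Nat.bijective_iff_injective_and_card f).2 ⟨hinj, hcard⟩).2 ⟨x, hx⟩
    exact ⟨z.1, z.1.2, z.2, z.2.2, (congrArg Subtype.val hz).symm⟩
  -- `B` and `P` commute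
  have hBP : ∀ b ∈ B, ∀ π ∈ (P : Subgroup G), Commute b π := by
    intro b hb
    suffices b ∈ Subgroup.centralizer (P : Set G) from fun π hπ =>
      (Subgroup.mem_centralizer_iff.1 this π hπ).symm
    refine mem_of_parts _ b fun y hy r hr hry => ?_
    have hyB : y ∈ B := (Subgroup.zpowers_le.2 hb) hy
    by_cases hrp : r = p
    · subst hrp; rw [hpB' y hyB hry]; exact one_mem _
    set S := qpart B r
    have hSc : Nat.card S = r ^ fct r H := by rw [card_qpart hBc hr, hfB r hr hrp]
    set C := (Subgroup.centralizer (S : Set G)).subgroupOf (P : Subgroup G)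
    have hC : C = ⊤ := by
      refine H75.eq_top_of_conj_cover C fun u => ?_
      have huH : (u : G) ∈ H := hP u.2
      obtain ⟨U, hU, hUr, hUc⟩ := exists_full hr (H ⊓ cen (u : G))
      have hfull : fct r (H ⊓ cen (u : G)) = fct r H := by
        have hrel : ((cen (u : G)).relIndex H).factorization r = 0 := by
          rcases h.relIndex_cen hw (mem_cen.1 huH).symm
            (hqw.coprime hq hp hqp (isPel_of_mem P.2 u.2)) with e | e
          · rw [e, Nat.factorization_one, Finsupp.zero_apply]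
          · rw [e, hn, hp.factorization_pow, Finsupp.single_eq_of_ne hrp]
        have h1 : Nat.card H = Nat.card ↥(H ⊓ cen (u : G)) * (cen (u : G)).relIndex H := by
          rw [← Subgroup.inf_relIndex_left H, ← Subgroup.relIndex_bot_left,
            ← Subgroup.relIndex_bot_left, Subgroup.relIndex_mul_relIndex _ _ _ bot_le inf_le_left]
        show _ = (Nat.card H).factorization r
        rw [h1, Nat.factorization_mul Nat.card_pos.ne' (rel_ne_zero _ _), Finsupp.add_apply, hrel,
          add_zero]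
      rw [hfull] at hUc
      obtain ⟨x, hxH, hx⟩ := conj_le_full hr ((qpart_le (M := B)).trans hBH) hSc hUr
        (hU.trans inf_le_left)
      obtain ⟨b', hb', π, hπ, rfl⟩ := hdec x hxH
      refine ⟨⟨π, hπ⟩, Subgroup.mem_subgroupOf.2 ?_⟩
      show π * u * π⁻¹ ∈ Subgroup.centralizer (S : Set G)
      have himg : S ≤ U.map (MulAut.conj (b' * π)).toMonoidHom := by
        refine (Subgroup.eq_of_le_of_card_ge (show U.map (MulAut.conj (b' * π)).toMonoidHom ≤ S by
          rintro _ ⟨v, hv, rfl⟩; exact hx v hv) ?_).ge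
        rw [Subgroup.card_map_of_injective (MulAut.conj (b' * π)).injective, hUc, hSc]
      refine Subgroup.mem_centralizer_iff.2 fun s hs => ?_
      obtain ⟨v, hv, hvs⟩ := himg hs
      have h2 : Commute v (u : G) := mem_cen.1 (hU hv).2
      have h3 : Commute s (b' * π * u * (b' * π)⁻¹) := by
        rw [← hvs]; exact h2.map (MulAut.conj (b' * π))
      have h4 : Commute b' s := hBc b' hb' s (qpart_le hs)
      have h5 := h3.map (MulAut.conj b'⁻¹)
      simp only [MulAut.conj_apply, inv_inv] at h5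
      rw [show b'⁻¹ * s * b' = s by rw [mul_assoc, ← h4.eq, inv_mul_cancel_left],
        show b'⁻¹ * (b' * π * u * (b' * π)⁻¹) * b' = π * u * π⁻¹ by group] at h5
      exact h5.eq
    refine Subgroup.mem_centralizer_iff.2 fun π hπ => ?_
    exact (Subgroup.mem_centralizer_iff.1 (Subgroup.mem_subgroupOf.1
      (hC ▸ Subgroup.mem_top (⟨π, hπ⟩ : (P : Subgroup G)) : (⟨π, hπ⟩ : (P : Subgroup G)) ∈ C))
      y ((mem_qpart hBc).2 ⟨hyB, hry⟩)).symm
  have hBcen : ∀ b ∈ B, H ≤ cen b := by
    intro b hb x hx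
    obtain ⟨b', hb', π, hπ, rfl⟩ := hdec x hx
    exact mem_cen.2 ((hBc b' hb' b hb).mul_left (hBP b hb π hπ).symm)
  -- every non-central `s`-element is conjugate into `H`, `s ∣ m`
  have key : ∀ s, s.Prime → s ∣ m → ∀ u, IsPel s u → u ∉ Subgroup.center G →
      ∃ g : G, g * u * g⁻¹ ∈ H ∧ cen (g * u * g⁻¹) = H := by
    intro s hs hsm u hus huZ
    have hsp : s ≠ p := fun e => hpm (e ▸ hsm)
    set S := qpart B s
    have hSH : S ≤ H := (qpart_le (M := B)).trans hBH
    have hSc : Nat.card S = s ^ fct s H := by rw [card_qpart hBc hs, hfB s hs hsp]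
    have hinS : ∀ y ∈ H, IsPel s y → y ∈ S := fun y hy hys => by
      obtain ⟨x, hx, hxS⟩ := conj_mem_full hs hSH hSc hy hys
      have h1 : Commute x (x * y * x⁻¹) := mem_cen.1 (hBcen _ (qpart_le hxS) hx)
      have h2 : x * y * x⁻¹ = y :=
        mul_left_cancel (h1.eq.trans (inv_mul_cancel_right (x * y) x))
      rwa [h2] at hxS
    suffices ∃ g : G, g * u * g⁻¹ ∈ H by
      obtain ⟨g, hg⟩ := this
      refine ⟨g, hg, (h.eq_of_le_E hw (fun e => huZ (conj_mem_center_iff.1 e)) ?_).symm⟩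
      exact hBcen _ (qpart_le (hinS _ hg (hus.conj g)))
    rcases h.size u huZ with hE | hF
    · obtain ⟨g, hg⟩ := h.exists_conj_sylow hpm hE P
      refine ⟨g, haH ▸ mem_cen.2 (mem_cen.1 (hg (mem_sylow_of_commute P hap ?_))).symm⟩
      rw [haH]; exact hP
    obtain ⟨v, hv, hvp, hvZ⟩ := h.exists_t_in_cen hno hp hpn u
    obtain ⟨d, hd⟩ := pel_conj_mem P hvp
    have hu'v' : d * u * d⁻¹ ∈ cen (d * v * d⁻¹) :=
      mem_cen_conj (mem_cen.2 (mem_cen.1 hv).symm)
    have hv'Z : d * v * d⁻¹ ∉ Subgroup.center G := fun e => hvZ (conj_mem_center_iff.1 e)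
    rcases h.size _ hv'Z with hvE | hvF
    · have hSv : S ≤ cen (d * v * d⁻¹) := fun z hz =>
        mem_cen.2 (mem_cen.1 (hBcen z (qpart_le hz) (hP hd))).symm
      obtain ⟨x, -, hx⟩ := conj_mem_full hs hSv
        (by rw [hSc, h.fct_eq hs hsm hv'Z (h.ne_center_E hw)]) hu'v' (hus.conj d)
      refine ⟨x * d, ?_⟩
      rw [show x * d * u * (x * d)⁻¹ = x * (d * u * d⁻¹) * x⁻¹ by group]
      exact hSH hx
    · refine ⟨d, ?_⟩
      rcases h.E_dichotomy hw (mem_cen.1 (hP hd)).symm
        (hqw.coprime hq hp hqp (hvp.conj d)) with hle | ⟨hF2, he⟩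
      · exact absurd (hvF) (h.E_ne_F (h.eq_of_le_E hw hv'Z hle ▸ hw))
      · have := h.eq_of_le_F (h.ne_center_F hF2) hvF (he.trans_le inf_le_right)
        rw [← this, he] at hu'v'
        exact hu'v'.1
  -- `H` is normal
  have hN : Subgroup.normalizer (H : Set G) = ⊤ := by
    set N := Subgroup.normalizer (H : Set G)
    have hdvd : N.index ∣ m := by
      rw [← hw]; exact Subgroup.index_dvd_of_le Subgroup.le_normalizer
    refine Subgroup.index_eq_one.1 (by_contra fun hne => ?_)
    obtain ⟨s, hs, hsN⟩ := Nat.exists_prime_and_dvd hne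
    haveI := Fact.mk hs
    have hsm := hsN.trans hdvd
    obtain ⟨T⟩ : Nonempty (Sylow s G) := inferInstance
    obtain ⟨z0, hz0, hz0Z⟩ := h.exists_pel hs (hsm.mul_right n)
    have hTZ : ¬ (T : Subgroup G) ≤ Subgroup.center G := fun e => by
      obtain ⟨c, hc⟩ := pel_conj_mem T hz0
      exact hz0Z (conj_mem_center_iff.1 (e hc))
    obtain ⟨z, hzT, hzZ, -, hzc⟩ := exists_good hs T.2 le_rfl
      (fun a ha b hb => (T : Subgroup G).mul_mem ((T : Subgroup G).mul_mem ha hb)
        ((T : Subgroup G).inv_mem ha)) hTZ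
    obtain ⟨g, -, hg⟩ := key s hs hsm z (isPel_of_mem T.2 hzT) hzZ
    have hle : (T : Subgroup G).map (MulAut.conj g).toMonoidHom ≤ N := by
      rintro _ ⟨τ, hτ, rfl⟩
      show g * τ * g⁻¹ ∈ Subgroup.normalizer (cen w : Set G)
      rw [mem_normalizer_cen_iff]
      rw [← cen_conj_congr hg, show g * τ * g⁻¹ * (g * z * g⁻¹) * (g * τ * g⁻¹)⁻¹ =
        g * (τ * z * τ⁻¹) * g⁻¹ by group]
      exact (cen_conj_congr (cen_conj_eq_of_central (hzc τ hτ)) g).trans hg
    have h1 := fct_mono (q := s) hle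
    rw [fct, Subgroup.card_map_of_injective (MulAut.conj g).injective, T.card_eq_multiplicity,
      hs.factorization_pow, Finsupp.single_eq_same] at h1
    have h2 := fct_add_index s N
    have h3 := hs.factorization_pos_of_dvd Subgroup.index_ne_zero_of_finite hsN
    simp only [fct, Subgroup.card_top] at h1 h2
    omega
  -- contradiction
  obtain ⟨s, hs, hsm⟩ := Nat.exists_prime_and_dvd h.hm.ne'
  haveI := Fact.mk hs
  obtain ⟨T⟩ : Nonempty (Sylow s G) := inferInstance
  refine not_dvd_index_of_sylow_le T (H := H) (fun u hu => ?_) (hw ▸ hsm)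
  by_cases huZ : u ∈ Subgroup.center G
  · exact center_le_cen w huZ
  obtain ⟨g, hgH, -⟩ := key s hs hsm u (isPel_of_mem T.2 hu) huZ
  exact (Subgroup.mem_normalizer_iff.1 (hN ▸ Subgroup.mem_top g : g ∈ Subgroup.normalizer (H : Set G)) u).2 hgH

end Hyp

end Cfsg.Agent.H42.Camina
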