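import Cfsg.Agent.H42.Camina.Gen
import Cfsg.Agent.H75.Cover

/-!
Class sizes `1, m, m * n` with coprime `m, n`: first facts.
-/

set_option autoImplicit false
set_option linter.style.haveILetI false

namespace Cfsg.Agent.H42.Camina

open Subgroup
open Cfsg.Agent.H34.OneSize (cen mem_cen cen_conj IsPel mem_of_parts isPel_of_mem)

/-- the class sizes are `1, m, m * n` -/
structure Hyp (G : Type*) [Group G] (m n : ℕ) : Prop where
  hm : 1 < m
  hn : 1 < n
  cop : m.Coprime n
  size : ∀ x : G, x ∉ Subgroup.center G → (cen x).index = m ∨ (cen x).index = m * n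
  exE : ∃ x : G, (cen x).index = m
  exF : ∃ x : G, (cen x).index = m * n

/-- some centraliser of index `m` is abelian -/
def HasAb (G : Type*) [Group G] (m : ℕ) : Prop :=
  ∃ x : G, (cen x).index = m ∧ ∀ a ∈ cen x, ∀ b ∈ cen x, Commute a b

variable {G : Type*} [Group G] {m n : ℕ}

theorem mem_cen_self (x : G) : x ∈ cen x := mem_cen.2 (Commute.refl x)

theorem center_le_cen (x : G) : Subgroup.center G ≤ cen x := Subgroup.center_le_centralizer _

theorem mem_center_iff_index {x : G} : (cen x).index = 1 ↔ x ∈ Subgroup.center G := by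
  rw [Subgroup.index_eq_one, Subgroup.centralizer_eq_top_iff_subset, Set.singleton_subset_iff]
  rfl

theorem cen_eq_top {x : G} (h : x ∈ Subgroup.center G) : cen x = ⊤ :=
  Subgroup.index_eq_one.1 (mem_center_iff_index.2 h)

/-- a conjugated centraliser -/
theorem index_cen_conj [Finite G] (g x : G) : (cen (g * x * g⁻¹)).index = (cen x).index := by
  apply Nat.eq_of_mul_eq_mul_left (Nat.card_pos (α := cen x))
  rw [Subgroup.card_mul_index, ← H34.OneSize.card_cen_conj g x, Subgroup.card_mul_index]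

theorem conj_mem_center_iff {g x : G} :
    g * x * g⁻¹ ∈ Subgroup.center G ↔ x ∈ Subgroup.center G := by
  refine ⟨fun h => ?_, fun h => (inferInstance : (Subgroup.center G).Normal).conj_mem x h g⟩
  have := (inferInstance : (Subgroup.center G).Normal).conj_mem _ h g⁻¹
  simpa [mul_assoc] using this

variable [Finite G]

theorem dvd_index_of_le {x y : G} (h : cen x ≤ cen y) : (cen y).index ∣ (cen x).index :=
  Subgroup.index_dvd_of_le h

theorem sylow_conj {q : ℕ} [Fact q.Prime] (P Q : Sylow q G) :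
    ∃ g : G, ∀ x ∈ (P : Subgroup G), g * x * g⁻¹ ∈ (Q : Subgroup G) := by
  obtain ⟨g, -, hg⟩ := conj_le_full (Fact.out : q.Prime) (le_top : (Q : Subgroup G) ≤ ⊤)
    (by rw [Q.card_eq_multiplicity, fct, Subgroup.card_top]) P.2 le_top
  exact ⟨g, hg⟩

theorem pel_conj_mem {q : ℕ} [Fact q.Prime] (P : Sylow q G) {w : G} (hw : IsPel q w) :
    ∃ g : G, g * w * g⁻¹ ∈ (P : Subgroup G) := by
  obtain ⟨g, -, hg⟩ := conj_mem_full (Fact.out : q.Prime) (le_top : (P : Subgroup G) ≤ ⊤)
    (by rw [P.card_eq_multiplicity, fct, Subgroup.card_top]) (Subgroup.mem_top w) hw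
  exact ⟨g, hg⟩

theorem mem_sylow_of_commute {q : ℕ} [Fact q.Prime] (P : Sylow q G) {w : G} (hw : IsPel q w)
    (hc : (P : Subgroup G) ≤ cen w) : w ∈ (P : Subgroup G) :=
  mem_full_of_normalizes (Fact.out : q.Prime) P.2 le_top
    (by rw [P.card_eq_multiplicity, fct, Subgroup.card_top]) (Subgroup.mem_top w) hw
    fun u hu => by
      have h1 : Commute w u := (mem_cen.1 (hc hu)).symm
      rwa [h1.eq, mul_inv_cancel_right]

theorem not_dvd_index_of_sylow_le {q : ℕ} [Fact q.Prime] (P : Sylow q G) {H : Subgroup G}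
    (h : (P : Subgroup G) ≤ H) : ¬ q ∣ H.index :=
  fun hd => P.not_dvd_index (hd.trans (Subgroup.index_dvd_of_le h))

namespace Hyp

variable (h : Hyp G m n)
include h

omit [Finite G] in
theorem ne_center_E {x : G} (hx : (cen x).index = m) : x ∉ Subgroup.center G := fun hZ => by
  rw [mem_center_iff_index.2 hZ] at hx; exact h.hm.ne hx

omit [Finite G] in
theorem ne_center_F {x : G} (hx : (cen x).index = m * n) : x ∉ Subgroup.center G := fun hZ => by
  rw [mem_center_iff_index.2 hZ] at hx
  have := h.hm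
  have := Nat.eq_one_of_mul_eq_one_right hx.symm
  omega

omit [Finite G] in
theorem not_mn_dvd_m : ¬ m * n ∣ m := fun hd => by
  have h0 : 0 < m := by have := h.hm; omega
  have h1 : m * n ∣ m * 1 := by rwa [mul_one]
  have := Nat.le_of_dvd one_pos (Nat.dvd_of_mul_dvd_mul_left h0 h1)
  have := h.hn
  omega

omit [Finite G] in
theorem E_ne_F {x : G} (hE : (cen x).index = m) : (cen x).index ≠ m * n :=
  fun hF => h.not_mn_dvd_m (by rw [← hF, hE])

omit [Finite G] in
theorem not_dvd_n {s : ℕ} (hs : s.Prime) (hsm : s ∣ m) : ¬ s ∣ n := fun hd =>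
  hs.one_lt.ne' (Nat.eq_one_of_dvd_coprimes h.cop hsm hd)

omit [Finite G] in
theorem not_dvd_m {t : ℕ} (ht : t.Prime) (htn : t ∣ n) : ¬ t ∣ m := fun hd =>
  h.not_dvd_n ht hd htn

theorem eq_of_le_E {x y : G} (hx : (cen x).index = m) (hy : y ∉ Subgroup.center G)
    (hle : cen x ≤ cen y) : cen x = cen y := by
  rcases h.size y hy with hE | hF
  · refine Subgroup.eq_of_le_of_card_ge hle ?_
    have h1 := (cen x).card_mul_index
    rw [hx, ← (cen y).card_mul_index, hE] at h1
    exact (Nat.eq_of_mul_eq_mul_right (by have := h.hm; omega) h1).ge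
  · exact absurd (hF ▸ hx ▸ dvd_index_of_le hle) h.not_mn_dvd_m

theorem eq_of_le_F {x y : G} (hx : x ∉ Subgroup.center G) (hy : (cen y).index = m * n)
    (hle : cen x ≤ cen y) : cen x = cen y := by
  rcases h.size x hx with hE | hF
  · exact absurd (hy ▸ hE ▸ dvd_index_of_le hle) h.not_mn_dvd_m
  · refine Subgroup.eq_of_le_of_card_ge hle ?_
    have h1 := (cen x).card_mul_index
    rw [hF, ← (cen y).card_mul_index, hy] at h1
    exact (Nat.eq_of_mul_eq_mul_right (Nat.mul_pos (by have := h.hm; omega)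
      (by have := h.hn; omega)) h1).ge

theorem F_of_le {x y : G} (hy : y ∉ Subgroup.center G) (hx : (cen x).index = m * n)
    (hle : cen y ≤ cen x) : (cen y).index = m * n := by
  rw [h.eq_of_le_F hy hx hle, hx]

theorem F_le_cen {x v : G} (hx : (cen x).index = m * n) (hc : Commute x v)
    (hco : (orderOf x).Coprime (orderOf v)) : cen x ≤ cen v := by
  have he := cen_mul_of_coprime hc hco
  have hne : x * v ∉ Subgroup.center G := fun hZ => h.ne_center_F hx (mem_center_iff_index.1 (by
    rw [Subgroup.index_eq_one]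
    exact top_le_iff.1 (cen_eq_top hZ ▸ he.trans_le inf_le_left)))
  have := h.eq_of_le_F hne hx (he.trans_le inf_le_left)
  exact this ▸ he.trans_le inf_le_right

theorem E_dichotomy {x w : G} (hx : (cen x).index = m) (hc : Commute x w)
    (hco : (orderOf x).Coprime (orderOf w)) :
    cen x ≤ cen w ∨ ((cen (x * w)).index = m * n ∧ cen (x * w) = cen x ⊓ cen w) := by
  have he := cen_mul_of_coprime hc hco
  have hne : x * w ∉ Subgroup.center G := fun hZ => h.ne_center_E hx (mem_center_iff_index.1 (by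
    rw [Subgroup.index_eq_one]
    exact top_le_iff.1 (cen_eq_top hZ ▸ he.trans_le inf_le_left)))
  rcases h.size _ hne with hE | hF
  · refine Or.inl ?_
    rw [← h.eq_of_le_E hE (h.ne_center_E hx) (he.trans_le inf_le_left)]
    exact he.trans_le inf_le_right
  · exact Or.inr ⟨hF, he⟩

theorem exists_part_E {x : G} (hx : (cen x).index = m) :
    ∃ y q, Nat.Prime q ∧ IsPel q y ∧ (cen y).index = m ∧ cen y = cen x := by
  by_contra hno
  refine h.ne_center_E hx (mem_of_parts _ x fun y hy q hq hyq => by_contra fun hyZ => hno ?_)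
  have := h.eq_of_le_E hx hyZ (cen_le_of_mem_zpowers hy)
  exact ⟨y, q, hq, hyq, this ▸ hx, this.symm⟩

theorem fct_m {s : ℕ} (hs : s.Prime) (hsm : s ∣ m) {x : G} (hx : x ∉ Subgroup.center G) :
    fct s (cen x) + m.factorization s = fct s (⊤ : Subgroup G) := by
  rw [← fct_add_index s (cen x)]
  rcases h.size x hx with hE | hF
  · rw [hE]
  · rw [hF, Nat.factorization_mul (by have := h.hm; omega) (by have := h.hn; omega),
      Finsupp.add_apply, Nat.factorization_eq_zero_of_not_dvd (h.not_dvd_n hs hsm), add_zero]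

theorem fct_eq {s : ℕ} (hs : s.Prime) (hsm : s ∣ m) {x y : G} (hx : x ∉ Subgroup.center G)
    (hy : y ∉ Subgroup.center G) : fct s (cen x) = fct s (cen y) := by
  have := h.fct_m hs hsm hx
  have := h.fct_m hs hsm hy
  omega

theorem fct_E {t : ℕ} (htm : ¬ t ∣ m) {x : G} (hx : (cen x).index = m) :
    fct t (cen x) = fct t (⊤ : Subgroup G) := by
  rw [← fct_add_index t (cen x), hx, Nat.factorization_eq_zero_of_not_dvd htm, add_zero]

theorem exists_sylow_E {t : ℕ} [Fact t.Prime] (htm : ¬ t ∣ m) {x : G} (hx : (cen x).index = m) :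
    ∃ P : Sylow t G, (P : Subgroup G) ≤ cen x :=
  exists_sylow_le (by rwa [hx])

theorem fct_F_le {x y : G} (hy : (cen y).index = m * n) (q : ℕ) :
    fct q (cen y) ≤ fct q (cen x) := by
  have h1 := fct_add_index q (cen x)
  have h2 := fct_add_index q (cen y)
  have hd : (cen x).index ∣ m * n := by
    by_cases hx : x ∈ Subgroup.center G
    · rw [mem_center_iff_index.2 hx]; exact one_dvd _
    · rcases h.size x hx with hE | hF
      · rw [hE]; exact Dvd.intro n rfl
      · rw [hF]
  rw [← hy] at hd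
  have := (Nat.factorization_le_iff_dvd Subgroup.index_ne_zero_of_finite
    Subgroup.index_ne_zero_of_finite).2 hd q
  omega

theorem exists_pel {q : ℕ} (hq : q.Prime) (hd : q ∣ m * n) :
    ∃ w : G, IsPel q w ∧ w ∉ Subgroup.center G := by
  haveI := Fact.mk hq
  by_contra hno
  push Not at hno
  obtain ⟨x, hx⟩ := h.exF
  obtain ⟨P⟩ : Nonempty (Sylow q G) := inferInstance
  exact not_dvd_index_of_sylow_le P (H := cen x)
    (fun u hu => center_le_cen x (hno u (isPel_of_mem P.2 hu))) (hx ▸ hd)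

theorem exists_s_in_cen {s : ℕ} (hs : s.Prime) (hsm : s ∣ m) {x : G}
    (hx : x ∉ Subgroup.center G) : ∃ u ∈ cen x, IsPel s u ∧ u ∉ Subgroup.center G := by
  obtain ⟨w, hwq, hwZ⟩ := h.exists_pel hs (hsm.mul_right n)
  refine (fct_center_lt_iff hs (center_le_cen x)).1 ?_
  rw [h.fct_eq hs hsm hx hwZ]
  exact (fct_center_lt_iff hs (center_le_cen w)).2 ⟨w, mem_cen_self w, hwq, hwZ⟩

/-- every prime divisor of `n` has an element of class size `m` of that prime power order -/
theorem exists_E_pel {t : ℕ} (ht : t.Prime) (htn : t ∣ n) :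
    ∃ u : G, IsPel t u ∧ (cen u).index = m := by
  haveI := Fact.mk ht
  by_contra hno
  push Not at hno
  have hF : ∀ u : G, IsPel t u → u ∉ Subgroup.center G → (cen u).index = m * n :=
    fun u hu huZ => (h.size u huZ).resolve_left (hno u hu)
  obtain ⟨x, hx⟩ := h.exE
  obtain ⟨a, q, hq, haq, ha, -⟩ := h.exists_part_E hx
  have hqt : q ≠ t := fun e => hno a (e ▸ haq) ha
  obtain ⟨R, hR⟩ := h.exists_sylow_E (h.not_dvd_m ht htn) ha
  obtain ⟨w, hwt, hwZ⟩ := h.exists_pel ht (htn.mul_left m)
  have hproper : cen a ≠ ⊤ := fun e => by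
    rw [e, Subgroup.index_top] at ha; exact h.hm.ne ha
  refine hproper (H75.eq_top_of_conj_cover _ fun g => ?_)
  by_cases hg : g ∈ Subgroup.center G
  · exact ⟨1, by simpa using center_le_cen a hg⟩
  obtain ⟨u, hug, hut, huZ⟩ := (fct_center_lt_iff ht (center_le_cen g)).1
    (((fct_center_lt_iff ht (center_le_cen w)).2 ⟨w, mem_cen_self w, hwt, hwZ⟩).trans_le
      (h.fct_F_le (hF w hwt hwZ) t))
  obtain ⟨c, hc⟩ := pel_conj_mem R hut
  have hrt : IsPel t (c * u * c⁻¹) := hut.conj c
  have hrF := hF _ hrt (fun e => huZ (conj_mem_center_iff.1 e))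
  have hle := h.F_le_cen hrF (mem_cen.1 (hR hc)) (hrt.coprime ht hq hqt.symm haq)
  exact ⟨c, hle (mem_cen_conj (mem_cen.2 (mem_cen.1 hug).symm))⟩

/-- conjugates of elements of class size `m` centralise any given Sylow subgroup -/
theorem exists_conj_sylow {t : ℕ} [Fact t.Prime] (htm : ¬ t ∣ m) {x : G}
    (hx : (cen x).index = m) (R : Sylow t G) :
    ∃ c : G, (R : Subgroup G) ≤ cen (c * x * c⁻¹) := by
  obtain ⟨P, hP⟩ := h.exists_sylow_E htm hx
  obtain ⟨c, hc⟩ := sylow_conj R P
  exact ⟨c⁻¹, fun u hu => cen_conj.2 (hP (by simpa using hc u hu))⟩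

/-- without abelian centralisers of index `m` every centraliser has non-central elements of
every prime dividing `n` -/
theorem exists_t_in_cen (hno : ¬ HasAb G m) {t : ℕ} (ht : t.Prime) (htn : t ∣ n) (x : G) :
    ∃ u ∈ cen x, IsPel t u ∧ u ∉ Subgroup.center G := by
  haveI := Fact.mk ht
  refine (fct_center_lt_iff ht (center_le_cen x)).1 ?_
  obtain ⟨y, hy⟩ := h.exF
  refine lt_of_lt_of_le ?_ (h.fct_F_le (x := x) hy t)
  by_contra hzero
  apply hno
  -- no centraliser of index `m * n` has a non-central `t`-element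
  have hnone : ∀ z : G, (cen z).index = m * n → ∀ u ∈ cen z, IsPel t u →
      u ∈ Subgroup.center G := fun z hz u hu hut => by_contra fun huZ => hzero
    (((fct_center_lt_iff ht (center_le_cen z)).2 ⟨u, hu, hut, huZ⟩).trans_le (h.fct_F_le hz t))
  have hE : ∀ u : G, IsPel t u → u ∉ Subgroup.center G → (cen u).index = m :=
    fun u hut huZ => (h.size u huZ).resolve_right fun hF =>
      huZ (hnone u hF u (mem_cen_self u) hut)
  obtain ⟨u, hut, hu⟩ := h.exists_E_pel ht htn
  -- elements of order prime to `t` are central in `cen u`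
  have hcen : ∀ v : G, IsPel t v → (cen v).index = m → ∀ r : ℕ, r.Prime → r ≠ t →
      ∀ w ∈ cen v, IsPel r w → cen v ≤ cen w := by
    intro v hvt hv r hr hrt w hw hwr
    refine (h.E_dichotomy hv (mem_cen.1 hw).symm (hvt.coprime ht hr hrt.symm hwr)).resolve_right ?_
    rintro ⟨hF, he⟩
    exact h.ne_center_E hv (hnone _ hF v (by rw [he]; exact ⟨mem_cen_self v, mem_cen.2
      (mem_cen.1 hw).symm⟩) hvt)
  obtain ⟨s, hs, hsm⟩ := Nat.exists_prime_and_dvd h.hm.ne'
  have hst : s ≠ t := fun e => h.not_dvd_n hs hsm (e ▸ htn)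
  obtain ⟨a, haH, has, haZ⟩ := h.exists_s_in_cen hs hsm (h.ne_center_E hu)
  have hca : cen u = cen a := h.eq_of_le_E hu haZ (hcen u hut hu s hs hst a haH has)
  -- `t`-elements are central as well
  have hcen' : ∀ v ∈ cen u, IsPel t v → cen u ≤ cen v := by
    intro v hv hvt
    by_cases hvZ : v ∈ Subgroup.center G
    · rw [cen_eq_top hvZ]; exact le_top
    have hvE := hE v hvt hvZ
    have hav : a ∈ cen v := mem_cen.2 (mem_cen.1 (hca ▸ hv)).symm
    exact ((h.eq_of_le_E hvE haZ (hcen v hvt hvE s hs hst a hav has)).trans hca.symm).ge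
  refine ⟨u, hu, fun a ha b hb => mem_cen.1 (mem_of_parts (cen b) a fun w hw r hr hwr => ?_)⟩
  have hwu : w ∈ cen u := (Subgroup.zpowers_le.2 ha) hw
  refine mem_cen.2 (mem_cen.1 ((?_ : cen u ≤ cen w) hb)).symm
  by_cases hrt : r = t
  · subst hrt; exact hcen' w hwu hwr
  · exact hcen u hut hu r hr hrt w hwu hwr

end Hyp

end Cfsg.Agent.H42.Camina
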