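import Cfsg.Agent.H42.Camina.Alpha

/-!
Class sizes `1, m, p ^ b * m`: some centraliser of index `m` is abelian.
-/

set_option autoImplicit false
set_option linter.style.haveILetI false

namespace Cfsg.Agent.H42.Camina

open Subgroup
open Cfsg.Agent.H34.OneSize (cen mem_cen cen_conj IsPel mem_of_parts isPel_of_mem)

variable {G : Type*} [Group G] [Finite G] {m n : ℕ}

/-- a product decomposition from indices -/
theorem exists_mem_mul {N H : Subgroup G} (hle : H.index ≤ H.relIndex N) :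
    ∀ g : G, ∃ ν ∈ N, ν⁻¹ * g ∈ H := by
  have hinj : Function.Injective
      (fun q : N ⧸ H.subgroupOf N => (((q.out : N) : G) : G ⧸ H)) := by
    intro a b e
    rw [← QuotientGroup.out_eq' a, ← QuotientGroup.out_eq' b]
    exact QuotientGroup.eq.2 (Subgroup.mem_subgroupOf.2 (QuotientGroup.eq.1 e))
  have hc : Nat.card (N ⧸ H.subgroupOf N) = Nat.card (G ⧸ H) :=
    le_antisymm (Nat.card_le_card_of_injective _ hinj) hle
  intro g
  obtain ⟨q, hq⟩ := ((Nat.bijective_iff_injective_and_card _).2 ⟨hinj, hc⟩).2 (g : G ⧸ H)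
  exact ⟨_, q.out.2, QuotientGroup.eq.1 hq⟩

theorem mem_of_conj_full {U : Subgroup G} {V : Subgroup G} {k : G}
    (hk : ∀ v ∈ V, k * v * k⁻¹ ∈ U) (hc : Nat.card V = Nat.card U) {u : G} (hu : u ∈ U) :
    ∃ v ∈ V, k * v * k⁻¹ = u := by
  have hle : V.map (MulAut.conj k).toMonoidHom ≤ U := by
    rintro _ ⟨v, hv, rfl⟩; exact hk v hv
  have he := Subgroup.eq_of_le_of_card_ge hle
    (by rw [Subgroup.card_map_of_injective (MulAut.conj k).injective, hc])
  obtain ⟨v, hv, hvu⟩ := he.symm ▸ hu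
  exact ⟨v, hv, hvu⟩

namespace Hyp

variable (h : Hyp G m n) (hno : ¬ HasAb G m) {p b : ℕ} (hp : p.Prime) (hn : n = p ^ b)
include h hno hp hn

theorem p_dvd : p ∣ n := by
  obtain ⟨t, ht, htn⟩ := Nat.exists_prime_and_dvd h.hn.ne'
  have h2 := htn
  rw [hn] at h2
  rwa [← (Nat.prime_dvd_prime_iff_eq ht hp).1 (ht.dvd_of_dvd_pow h2)]

theorem s_F {s : ℕ} (hs : s.Prime) (hsm : s ∣ m) {u : G} (hus : IsPel s u)
    (huZ : u ∉ Subgroup.center G) : (cen u).index = m * n :=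
  (h.size u huZ).resolve_left fun hE => h.not_dvd_m hp (h.p_dvd hno hp hn)
    (h.pel_E_eq hno hp hn hs hus hE ▸ hsm)

/-- `s`-subgroups of centralisers of index `m` are abelian -/
theorem comm_of_full {s : ℕ} (hs : s.Prime) (hsp : s ≠ p) {a : G} (hap : IsPel p a)
    (ha : (cen a).index = m) {U : Subgroup G} (hU : IsPGroup s U) (hUa : U ≤ cen a) :
    ∀ x ∈ U, ∀ y ∈ U, Commute x y := by
  obtain ⟨B, hB, hBc, -, k, hk⟩ := h.exists_complement hp hn hap ha
  have hc : Nat.card (qpart B s) = s ^ fct s (cen a) := by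
    rw [card_qpart hBc hs]
    congr 1
    rw [fct, fct, hk, Nat.factorization_mul Nat.card_pos.ne' (pow_ne_zero _ hp.ne_zero),
      Finsupp.add_apply, hp.factorization_pow, Finsupp.single_eq_of_ne hsp, add_zero]
  obtain ⟨g, -, hg⟩ := conj_le_full hs ((qpart_le (M := B)).trans hB) hc hU hUa
  intro x hx y hy
  have h1 := (hBc _ (qpart_le (hg x hx)) _ (qpart_le (hg y hy))).map (MulAut.conj g⁻¹)
  simpa [mul_assoc] using h1

/-- centralisers of `s`-elements are abelian -/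
theorem s_ab {s : ℕ} (hs : s.Prime) (hsm : s ∣ m) {u : G} (hus : IsPel s u)
    (huZ : u ∉ Subgroup.center G) : ∀ x ∈ cen u, ∀ y ∈ cen u, Commute x y := by
  haveI := Fact.mk hs
  have hpn := h.p_dvd hno hp hn
  have hsp : s ≠ p := fun e => h.not_dvd_m hp hpn (e ▸ hsm)
  have huF := h.s_F hno hp hn hs hsm hus huZ
  -- elements of order prime to `s` are central
  have hcen : ∀ r y, Nat.Prime r → r ≠ s → IsPel r y → y ∈ cen u → cen u ≤ cen y :=
    fun r y hr hrs hry hy => h.F_le_cen huF (mem_cen.1 hy).symm (hus.coprime hs hr hrs.symm hry)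
  obtain ⟨v, hv, hvp, hvZ⟩ := h.exists_t_in_cen hno hp hpn u
  obtain ⟨S, hSu, hS, hSc⟩ := exists_full hs (cen u)
  have huv := hcen p v hp hsp.symm hvp hv
  have hSS : ∀ x ∈ S, ∀ y ∈ S, Commute x y := by
    rcases h.size v hvZ with hE | hF
    · exact h.comm_of_full hno hp hn hs hsp hvp hE hS (hSu.trans huv)
    · intro x hx y hy
      have hxv : Commute v x := (mem_cen.1 (huv (hSu hx))).symm
      exact (mem_cen.1 (h.F_le_cen hF hxv (hvp.coprime hp hs hsp.symm (isPel_of_mem hS hx))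
        (huv (hSu hy)))).symm
  -- the centre and `S` generate
  set D := Subgroup.centralizer ((cen u : Subgroup G) : Set G) ⊓ cen u
  have hD : D ⊔ S = cen u := by
    have hle : D ⊔ S ≤ cen u := sup_le inf_le_right hSu
    refine Subgroup.eq_of_le_of_card_ge hle (Nat.le_of_dvd Nat.card_pos
      ((Nat.factorization_le_iff_dvd Nat.card_pos.ne' Nat.card_pos.ne').1 fun r => ?_))
    by_cases hr : r.Prime
    swap
    · rw [Nat.factorization_eq_zero_of_not_prime _ hr]; exact Nat.zero_le _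
    obtain ⟨U, hUu, hU, hUc⟩ := exists_full hr (cen u)
    have hsub : ∀ T : Subgroup G, T ≤ D ⊔ S → Nat.card T = r ^ fct r (cen u) →
        (Nat.card (cen u)).factorization r ≤ (Nat.card ↥(D ⊔ S)).factorization r := by
      intro T hT hTc
      have := fct_mono (q := r) hT
      rwa [fct, hTc, hr.factorization_pow, Finsupp.single_eq_same] at this
    by_cases hrs : r = s
    · subst hrs; exact hsub S le_sup_right hSc
    · refine hsub U (le_trans (show U ≤ D from fun w hw =>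
        ⟨Subgroup.mem_centralizer_iff.2 fun g hg => ?_, hUu hw⟩) le_sup_left) hUc
      exact (mem_cen.1 (hcen r w hr hrs (isPel_of_mem hU hw) (hUu hw) hg)).eq
  have hDS : ∀ x ∈ cen u, ∀ d ∈ D, Commute x d := fun x hx d hd =>
    Subgroup.mem_centralizer_iff.1 hd.1 x hx
  intro x hx y hy
  suffices cen u ≤ cen y from mem_cen.1 (this hx)
  rw [← hD] at hy ⊢
  refine sup_le (fun d hd => mem_cen.2 (hDS y (hD ▸ hy) d hd).symm) fun s1 hs1 => ?_
  refine mem_cen.2 ?_
  suffices y ∈ cen s1 from (mem_cen.1 this).symm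
  exact (sup_le (fun d hd => mem_cen.2 (hDS s1 (hSu hs1) d hd).symm)
    (fun s2 hs2 => mem_cen.2 (hSS s2 hs2 s1 hs1)) : D ⊔ S ≤ cen s1) hy

theorem s_cen_eq {s r : ℕ} (hs : s.Prime) (hsm : s ∣ m) {u : G} (hus : IsPel s u)
    (huZ : u ∉ Subgroup.center G) (hr : r.Prime) (hrm : r ∣ m) {x : G} (hx : x ∈ cen u)
    (hxr : IsPel r x) (hxZ : x ∉ Subgroup.center G) : cen x = cen u :=
  (h.eq_of_le_F huZ (h.s_F hno hp hn hr hrm hxr hxZ) fun _ hg =>
    mem_cen.2 (h.s_ab hno hp hn hs hsm hus huZ _ hg _ hx)).symm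

theorem fpf_r {s r : ℕ} (hs : s.Prime) (hsm : s ∣ m) {z : G} (hzs : IsPel s z)
    (hzZ : z ∉ Subgroup.center G) (hr : r.Prime) (hrm : r ∣ m) {g v : G} (hg : g ∉ cen z)
    (hv : v ∈ cen z) (hvr : IsPel r v) (hc : Commute g v) : v ∈ Subgroup.center G := by
  by_contra hvZ
  exact hg (h.s_cen_eq hno hp hn hs hsm hzs hzZ hr hrm hv hvr hvZ ▸ mem_cen.2 hc)

theorem fpf_p {s : ℕ} (hs : s.Prime) (hsm : s ∣ m) {z : G} (hzs : IsPel s z)
    (hzZ : z ∉ Subgroup.center G) {g v : G} (hgs : IsPel s g)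
    (hgn : ∀ u ∈ cen z, g * u * g⁻¹ ∈ cen z) (hg : g ∉ cen z)
    (hv : v ∈ cen z) (hvp : IsPel p v) (hc : Commute g v) : v ∈ Subgroup.center G := by
  by_contra hvZ
  have hab := h.s_ab hno hp hn hs hsm hzs hzZ
  have hle : cen z ≤ cen v := fun u hu => mem_cen.2 (hab u hu v hv)
  rcases h.size v hvZ with hE | hF
  · refine hg (qpart_le (mem_full_of_normalizes hs (isPGroup_qpart hab)
      ((qpart_le (q := s)).trans hle) ?_ (mem_cen.2 hc) hgs fun u hu => (mem_qpart hab).2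
        ⟨hgn u (qpart_le hu), ((mem_qpart hab).1 hu).2.conj g⟩))
    rw [card_qpart hab hs, h.fct_eq hs hsm hvZ hzZ]
  · exact hg (h.eq_of_le_F hzZ hF hle ▸ mem_cen.2 hc)

/-- an element central modulo the centre in a Sylow subgroup -/
theorem exists_z {s : ℕ} [Fact s.Prime] (hsm : s ∣ m) (T : Sylow s G) :
    ∃ z ∈ (T : Subgroup G), z ∉ Subgroup.center G ∧ z ^ s ∈ Subgroup.center G ∧
      (∀ g ∈ (T : Subgroup G), g * z * g⁻¹ * z⁻¹ ∈ Subgroup.center G) ∧
      (∀ g ∈ (T : Subgroup G), ∀ u ∈ cen z, g * u * g⁻¹ ∈ cen z) ∧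
      qpart (cen z) s ≤ (T : Subgroup G) := by
  have hs : s.Prime := Fact.out
  obtain ⟨z0, hz0, hz0Z⟩ := h.exists_pel hs (hsm.mul_right n)
  have hTZ : ¬ (T : Subgroup G) ≤ Subgroup.center G := fun e => by
    obtain ⟨c, hc⟩ := pel_conj_mem T hz0
    exact hz0Z (conj_mem_center_iff.1 (e hc))
  obtain ⟨z, hzT, hzZ, hzs, hzc⟩ := exists_good hs T.2 le_rfl
    (fun a ha b hb => (T : Subgroup G).mul_mem ((T : Subgroup G).mul_mem ha hb)
      ((T : Subgroup G).inv_mem ha)) hTZ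
  have hn' : ∀ g ∈ (T : Subgroup G), ∀ u ∈ cen z, g * u * g⁻¹ ∈ cen z := fun g hg u hu =>
    cen_conj_eq_of_central (hzc g hg) ▸ mem_cen_conj hu
  refine ⟨z, hzT, hzZ, hzs, hzc, hn', ?_⟩
  have hab := h.s_ab hno hp hn hs hsm (isPel_of_mem T.2 hzT) hzZ
  have h1 := H34.OneSize.card_inf_of_normalized T (cen z) hn'
  have h2 : (T : Subgroup G) ⊓ cen z = qpart (cen z) s :=
    Subgroup.eq_of_le_of_card_ge
      (fun u hu => (mem_qpart hab).2 ⟨hu.2, isPel_of_mem T.2 hu.1⟩) (by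
        rw [card_qpart hab hs, h1])
  exact h2 ▸ inf_le_left

theorem m_squarefree {s : ℕ} (hs : s.Prime) (hsm : s ∣ m) : m.factorization s = 1 := by
  haveI := Fact.mk hs
  have hm0 : m ≠ 0 := by have := h.hm; omega
  have hpos := hs.factorization_pos_of_dvd hm0 hsm
  obtain ⟨T⟩ : Nonempty (Sylow s G) := inferInstance
  obtain ⟨z, hzT, hzZ, hzp, hzc, hzn, hXT⟩ := h.exists_z hno hp hn hsm T
  have hzs := isPel_of_mem T.2 hzT
  have hab := h.s_ab hno hp hn hs hsm hzs hzZ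
  have hsum := h.fct_m hs hsm hzZ
  have hTc : Nat.card T = s ^ fct s (⊤ : Subgroup G) := by
    rw [T.card_eq_multiplicity, fct, Subgroup.card_top]
  obtain ⟨g, hgT, hg⟩ : ∃ g ∈ (T : Subgroup G), g ∉ cen z := by
    by_contra hno'
    push Not at hno'
    have := fct_mono (q := s) (hno' : (T : Subgroup G) ≤ cen z)
    rw [fct, hTc, hs.factorization_pow, Finsupp.single_eq_same] at this
    omega
  obtain ⟨v, hv, hvp, hvZ⟩ := h.exists_t_in_cen hno hp (h.p_dvd hno hp hn) z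
  have hsp : s ≠ p := fun e => h.not_dvd_m hp (h.p_dvd hno hp hn) (e ▸ hsm)
  have hgpow : g ^ s ∈ cen z := pow_mem_cen (hzc g hgT) hzp
  have hmemX : ∀ u ∈ (T : Subgroup G), u ∈ cen z → u ∈ qpart (cen z) s := fun u hu hu' =>
    (mem_qpart hab).2 ⟨hu', isPel_of_mem T.2 hu⟩
  have hcard : Nat.card T ≤ s * Nat.card (qpart (cen z) s) := by
    refine card_le_mul hs.pos (hmemX _ (pow_mem hgT s) hgpow) fun g' hg' => ?_
    obtain ⟨j, hj⟩ := exists_mul_pow_mem' hab hs hp hsp (g := g') (h := g)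
      (hzn g' hg') (hzn g hgT) (pow_mem_cen (hzc g' hg') hzp) hgpow
      (comm_mem_cen (hzc g' hg') (hzc g hgT)) hg
      (fun w hw hwp hc => h.fpf_p hno hp hn hs hsm hzs hzZ (isPel_of_mem T.2 hgT) (hzn g hgT) hg
        hw hwp hc)
      (fun j hj w hw hwp hc => h.fpf_p hno hp hn hs hsm hzs hzZ
        (isPel_of_mem T.2 ((T : Subgroup G).mul_mem hg' (pow_mem hgT j)))
        (hzn _ ((T : Subgroup G).mul_mem hg' (pow_mem hgT j))) hj hw hwp hc)
      ⟨v, hv, hvp, hvZ⟩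
    exact ⟨j, hmemX _ ((T : Subgroup G).mul_mem hg' (pow_mem hgT j)) hj⟩
  rw [card_qpart hab hs, hTc, ← pow_succ', Nat.pow_le_pow_iff_right hs.one_lt] at hcard
  omega

theorem fct_top_succ {s : ℕ} (hs : s.Prime) (hsm : s ∣ m) {u : G}
    (huZ : u ∉ Subgroup.center G) : fct s (⊤ : Subgroup G) = fct s (cen u) + 1 := by
  rw [← h.fct_m hs hsm huZ, h.m_squarefree hno hp hn hs hsm]

/-- two abelian maximal subgroups of a Sylow subgroup -/
theorem sylow_unique {s : ℕ} [Fact s.Prime] (hsm : s ∣ m) {z : G} (hzZ : z ∉ Subgroup.center G)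
    (T : Sylow s G) {X Y : Subgroup G} (hX : X ≤ (T : Subgroup G)) (hY : Y ≤ (T : Subgroup G))
    (hXc : Nat.card X = s ^ fct s (cen z)) (hYc : Nat.card Y = s ^ fct s (cen z))
    (hXa : ∀ a ∈ X, ∀ b ∈ X, Commute a b) (hYa : ∀ a ∈ Y, ∀ b ∈ Y, Commute a b)
    (hbig : fct s (Subgroup.center G) + 1 < fct s (cen z)) : X = Y := by
  by_contra hne
  have hs : s.Prime := Fact.out
  have hTc : Nat.card T = s ^ (fct s (cen z) + 1) := by
    rw [T.card_eq_multiplicity, ← h.fct_top_succ hno hp hn hs hsm hzZ, fct, Subgroup.card_top]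
  have hsup : X ⊔ Y = (T : Subgroup G) := by
    refine Subgroup.eq_of_le_of_card_ge (sup_le hX hY) ?_
    obtain ⟨j, hj⟩ := IsPGroup.iff_card.1 (T.2.to_le (sup_le hX hY))
    have hlt : Nat.card X < Nat.card ↥(X ⊔ Y) := by
      refine lt_of_le_of_ne (Subgroup.card_le_of_le le_sup_left) fun e => hne ?_
      have hYX : Y ≤ X := (Subgroup.eq_of_le_of_card_ge (le_sup_left : X ≤ X ⊔ Y) e.ge).symm ▸
        (le_sup_right : Y ≤ X ⊔ Y)
      exact (Subgroup.eq_of_le_of_card_ge hYX (by rw [hXc, hYc])).symm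
    rw [hXc, hj, Nat.pow_lt_pow_iff_right hs.one_lt] at hlt
    rw [hTc, hj]
    exact Nat.pow_le_pow_right hs.pos (by omega)
  have hinf : fct s (X ⊓ Y) ≤ fct s (Subgroup.center G) := fct_mono fun a ha => by
    by_contra haZ
    refine not_dvd_index_of_sylow_le T (H := cen a) (hsup ▸ sup_le
      (fun b hb => mem_cen.2 (hXa b hb a ha.1)) (fun b hb => mem_cen.2 (hYa b hb a ha.2))) ?_
    rcases h.size a haZ with e | e <;> rw [e]
    · exact hsm
    · exact hsm.mul_right n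
  have h1 := card_mul_card_le hX hY
  rw [hXc, hYc, hTc, card_eq_pow hs (T.2.to_le (inf_le_left.trans hX) : IsPGroup s ↥(X ⊓ Y)),
    ← pow_add, ← pow_add, Nat.pow_le_pow_iff_right hs.one_lt] at h1
  omega

theorem X_small {s : ℕ} (hs : s.Prime) (hsm : s ∣ m) {u : G} (huZ : u ∉ Subgroup.center G) :
    fct s (cen u) = fct s (Subgroup.center G) + 1 := by
  haveI := Fact.mk hs
  obtain ⟨x0, hx0, hx0s, hx0Z⟩ := h.exists_s_in_cen hs hsm huZ
  refine le_antisymm ?_ ((fct_center_lt_iff hs (center_le_cen u)).2 ⟨x0, hx0, hx0s, hx0Z⟩)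
  by_contra hlt
  push Not at hlt
  obtain ⟨T⟩ : Nonempty (Sylow s G) := inferInstance
  obtain ⟨z, hzT, hzZ, -, hzc, hzn, hXT⟩ := h.exists_z hno hp hn hsm T
  have hzs := isPel_of_mem T.2 hzT
  have hab := h.s_ab hno hp hn hs hsm hzs hzZ
  set X := qpart (cen z) s
  have hXc : Nat.card X = s ^ fct s (cen z) := card_qpart hab hs
  have hbig : fct s (Subgroup.center G) + 1 < fct s (cen z) := by
    rw [h.fct_eq hs hsm hzZ huZ]; exact hlt
  have hXa : ∀ a ∈ X, ∀ b ∈ X, Commute a b := fun a ha b hb =>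
    hab a (qpart_le ha) b (qpart_le hb)
  -- abelian subgroups of the order of `X` are conjugate to it
  have hconjX : ∀ U : Subgroup G, IsPGroup s U → Nat.card U = Nat.card X →
      (∀ a ∈ U, ∀ b ∈ U, Commute a b) → ∃ k : G, ∀ a ∈ U, k * a * k⁻¹ ∈ X := by
    intro U hU hUc hUa
    obtain ⟨T', hT'⟩ := hU.exists_le_sylow
    obtain ⟨k, hk⟩ := sylow_conj T' T
    have e := h.sylow_unique hno hp hn hsm hzZ T (X := X) (Y := U.map (MulAut.conj k).toMonoidHom)
      hXT (by rintro _ ⟨a, ha, rfl⟩; exact hk a (hT' ha)) hXc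
      (by rw [Subgroup.card_map_of_injective (MulAut.conj k).injective, hUc, hXc]) hXa
      (by rintro _ ⟨a, ha, rfl⟩ _ ⟨c, hc, rfl⟩; exact (hUa a ha c hc).map (MulAut.conj k)) hbig
    exact ⟨k, fun a ha => e ▸ ⟨a, ha, rfl⟩⟩
  obtain ⟨x, hx⟩ := h.exE
  obtain ⟨a0, q, hq, hqa, ha0, -⟩ := h.exists_part_E hx
  obtain rfl := h.pel_E_eq hno hp hn hq hqa ha0
  have hsp : s ≠ q := fun e => h.not_dvd_m hq (h.p_dvd hno hq hn) (e ▸ hsm)
  obtain ⟨Y, hYa, hY, hYc⟩ := exists_full hs (cen a0)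
  have hYc' : Nat.card Y = Nat.card X := by
    rw [hYc, hXc, h.fct_eq hs hsm (h.ne_center_E ha0) hzZ]
  obtain ⟨k, hk⟩ := hconjX Y hY hYc' (h.comm_of_full hno hq hn hs hsp hqa ha0 hY hYa)
  set a := k * a0 * k⁻¹
  have haE : (cen a).index = m := by rw [index_cen_conj, ha0]
  have hap : IsPel q a := hqa.conj k
  have hXa' : X ≤ cen a := fun w hw => by
    obtain ⟨v, hv, rfl⟩ := mem_of_conj_full hk hYc' hw
    exact mem_cen_conj (hYa hv)
  have haz : a ∈ cen z :=
    mem_cen.2 (mem_cen.1 (hXa' ((mem_qpart hab).2 ⟨mem_cen_self z, hzs⟩))).symm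
  set N := Subgroup.normalizer (cen z : Set G)
  have hrel : m ∣ (cen a).relIndex N := by
    refine (Nat.factorization_le_iff_dvd (by have := h.hm; omega) (rel_ne_zero _ _)).1 fun r => ?_
    by_cases hr : r ∈ m.primeFactors
    swap
    · rw [Finsupp.notMem_support_iff.1 (by rwa [Nat.support_factorization] : r ∉ m.factorization.support)]
      exact Nat.zero_le _
    obtain ⟨hr, hrm, -⟩ := Nat.mem_primeFactors.1 hr
    haveI := Fact.mk hr
    rw [h.m_squarefree hno hq hn hr hrm]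
    set W := qpart (cen z) r
    obtain ⟨Tr, hTr⟩ := (isPGroup_qpart hab (q := r)).exists_le_sylow
    have hTrc : Nat.card Tr = r ^ fct r (⊤ : Subgroup G) := by
      rw [Tr.card_eq_multiplicity, fct, Subgroup.card_top]
    have hTrN : (Tr : Subgroup G) ≤ N := by
      intro τ hτ
      obtain ⟨w, hw, hwr, hwZ⟩ := h.exists_s_in_cen hr hrm hzZ
      have hW : w ∈ W := (mem_qpart hab).2 ⟨hw, hwr⟩
      have hτw := conj_mem_of_card hr Tr.2 hTr (by
        rw [hTrc, card_qpart hab hr, ← pow_succ', h.fct_top_succ hno hq hn hr hrm hzZ]) τ hτ w hW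
      rw [mem_normalizer_cen_iff,
        ← cen_conj_congr (h.s_cen_eq hno hq hn hs hsm hzs hzZ hr hrm hw hwr hwZ) τ]
      exact h.s_cen_eq hno hq hn hs hsm hzs hzZ hr hrm (qpart_le hτw) (hwr.conj τ)
        (fun e => hwZ (conj_mem_center_iff.1 e))
    have h1 := fct_mono (q := r) hTrN
    rw [fct, hTrc, hr.factorization_pow, Finsupp.single_eq_same] at h1
    have h2 : Nat.card N = Nat.card ↥(N ⊓ cen a) * (cen a).relIndex N := by
      rw [← Subgroup.inf_relIndex_left N, ← Subgroup.relIndex_bot_left,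
        ← Subgroup.relIndex_bot_left, Subgroup.relIndex_mul_relIndex _ _ _ bot_le inf_le_left]
    have h3 := fct_mono (q := r) (inf_le_right : N ⊓ cen a ≤ cen a)
    have h4 := h.fct_top_succ hno hq hn hr hrm (h.ne_center_E haE)
    have h5 : fct r N = fct r (N ⊓ cen a) + ((cen a).relIndex N).factorization r := by
      show (Nat.card N).factorization r = _
      rw [h2, Nat.factorization_mul Nat.card_pos.ne' (rel_ne_zero _ _), Finsupp.add_apply]
    simp only [fct] at h1 h3 h4 h5 ⊢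
    omega
  have hNH := exists_mem_mul (N := N) (H := cen a)
    (haE ▸ Nat.le_of_dvd (Nat.pos_of_ne_zero (rel_ne_zero _ _)) hrel)
  obtain ⟨g, hgT, hg⟩ : ∃ g ∈ (T : Subgroup G), g ∉ cen z := by
    by_contra hno'
    push Not at hno'
    have := fct_mono (q := s) (hno' : (T : Subgroup G) ≤ cen z)
    rw [fct, T.card_eq_multiplicity, hs.factorization_pow, Finsupp.single_eq_same] at this
    have h2 := h.fct_top_succ hno hq hn hs hsm hzZ
    simp only [fct, Subgroup.card_top] at this h2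
    omega
  have hgs := isPel_of_mem T.2 hgT
  have hgZ : g ∉ Subgroup.center G := fun e => hg (center_le_cen z e)
  have hgab := h.s_ab hno hq hn hs hsm hgs hgZ
  obtain ⟨k', hk'⟩ := hconjX (qpart (cen g) s) (isPGroup_qpart hgab)
    (by rw [card_qpart hgab hs, hXc, h.fct_eq hs hsm hgZ hzZ])
    (fun a ha b hb => hgab a (qpart_le ha) b (qpart_le hb))
  have hk'g := hk' g ((mem_qpart hgab).2 ⟨mem_cen_self g, hgs⟩)
  obtain ⟨ν, hν, hνh⟩ := hNH k'⁻¹
  have hconj : k'⁻¹ * a * k' = ν * a * ν⁻¹ := by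
    have e := (mem_cen.1 hνh).eq
    calc k'⁻¹ * a * k' = ν * ((ν⁻¹ * k'⁻¹) * a) * k' := by group
      _ = ν * (a * (ν⁻¹ * k'⁻¹)) * k' := by rw [e]
      _ = ν * a * ν⁻¹ := by group
  have hb : k'⁻¹ * a * k' ∈ cen z := hconj ▸ (Subgroup.mem_normalizer_iff.1 hν a).1 haz
  have hgb : Commute g (k'⁻¹ * a * k') := by
    have h1 := (mem_cen.1 (hXa' hk'g)).map (MulAut.conj k'⁻¹)
    simp only [MulAut.conj_apply, inv_inv] at h1
    rwa [show k'⁻¹ * (k' * g * k'⁻¹) * k' = g by group] at h1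
  have := h.fpf_p hno hq hn hs hsm hzs hzZ hgs (hzn g hgT) hg hb (by simpa using hap.conj k'⁻¹) hgb
  exact h.ne_center_E haE (by simpa [mul_assoc] using (conj_mem_center_iff (g := k')).2 this)

theorem m_prime_pow {s r : ℕ} (hs : s.Prime) (hsm : s ∣ m) (hr : r.Prime) (hrm : r ∣ m) :
    s = r := by
  by_contra hsr
  haveI := Fact.mk hs
  haveI := Fact.mk hr
  obtain ⟨T⟩ : Nonempty (Sylow s G) := inferInstance
  obtain ⟨z, hzT, hzZ, -, -, hzn, -⟩ := h.exists_z hno hp hn hsm T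
  have hzs := isPel_of_mem T.2 hzT
  have hab := h.s_ab hno hp hn hs hsm hzs hzZ
  have key : ∀ q l : ℕ, q.Prime → l.Prime → q ≠ l → q ∣ m → l ∣ m → ∀ g, IsPel q g →
      (∀ u ∈ cen z, g * u * g⁻¹ ∈ cen z) → g ∉ cen z → q ∣ l - 1 := by
    intro q l hq hl hql hqm hlm g hgq hgn hg
    have h1 := fpf_congr hab (center_le_cen z) hq hl hql hgq hgn
      (fun v hv hvl hc => h.fpf_r hno hp hn hs hsm hzs hzZ hl hlm hg hv hvl hc)
    rw [h.X_small hno hp hn hl hlm hzZ, Nat.add_sub_cancel_left, pow_one] at h1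
    exact (Nat.modEq_iff_dvd' hl.one_le).1 h1.symm
  obtain ⟨g, hgT, hg⟩ : ∃ g ∈ (T : Subgroup G), g ∉ cen z := by
    by_contra hno'
    push Not at hno'
    have := fct_mono (q := s) (hno' : (T : Subgroup G) ≤ cen z)
    rw [fct, T.card_eq_multiplicity, hs.factorization_pow, Finsupp.single_eq_same] at this
    have h2 := h.fct_top_succ hno hp hn hs hsm hzZ
    simp only [fct, Subgroup.card_top] at this h2
    omega
  have h1 := key s r hs hr hsr hsm hrm g (isPel_of_mem T.2 hgT) (hzn g hgT) hg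
  obtain ⟨Tr, hTr⟩ := (isPGroup_qpart hab (q := r)).exists_le_sylow
  have hTrc : Nat.card Tr = r ^ (fct r (cen z) + 1) := by
    rw [Tr.card_eq_multiplicity, ← h.fct_top_succ hno hp hn hr hrm hzZ, fct, Subgroup.card_top]
  obtain ⟨τ, hτ, hτz⟩ : ∃ τ ∈ (Tr : Subgroup G), τ ∉ cen z := by
    by_contra hno'
    push Not at hno'
    have := fct_mono (q := r) (hno' : (Tr : Subgroup G) ≤ cen z)
    rw [fct, hTrc, hr.factorization_pow, Finsupp.single_eq_same] at this
    simp only [fct] at this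
    omega
  obtain ⟨w, hw, hwr, hwZ⟩ := h.exists_s_in_cen hr hrm hzZ
  have hτw := conj_mem_of_card hr Tr.2 hTr
    (by rw [hTrc, card_qpart hab hr, pow_succ']) τ hτ w ((mem_qpart hab).2 ⟨hw, hwr⟩)
  have hτN : τ ∈ Subgroup.normalizer (cen z : Set G) := by
    rw [mem_normalizer_cen_iff,
      ← cen_conj_congr (h.s_cen_eq hno hp hn hs hsm hzs hzZ hr hrm hw hwr hwZ) τ]
    exact h.s_cen_eq hno hp hn hs hsm hzs hzZ hr hrm (qpart_le hτw) (hwr.conj τ)
      (fun e => hwZ (conj_mem_center_iff.1 e))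
  have h2 := key r s hr hs (Ne.symm hsr) hrm hsm τ (isPel_of_mem Tr.2 hτ)
    (fun u hu => (Subgroup.mem_normalizer_iff.1 hτN u).1 hu) hτz
  have h3 := Nat.le_of_dvd (by have := hr.two_le; omega) h1
  have h4 := Nat.le_of_dvd (by have := hs.two_le; omega) h2
  have := hs.two_le
  have := hr.two_le
  omega

theorem contradiction_of_noAb : False := by
  obtain ⟨s, hs, hsm⟩ := Nat.exists_prime_and_dvd h.hm.ne'
  haveI := Fact.mk hs
  haveI := Fact.mk hp
  have hm1 := h.m_squarefree hno hp hn hs hsm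
  have hms : m = s := by
    have h1 := Nat.eq_prime_pow_of_unique_prime_dvd (n := m) (p := s) (by have := h.hm; omega)
      (fun hd hdm => (h.m_prime_pow hno hp hn hs hsm hd hdm).symm)
    rw [h1, hs.factorization_pow, Finsupp.single_eq_same] at hm1
    rw [h1, hm1, pow_one]
  have hpn := h.p_dvd hno hp hn
  have hpm := h.not_dvd_m hp hpn
  have hsp : s ≠ p := fun e => hpm (e ▸ hsm)
  obtain ⟨T⟩ : Nonempty (Sylow s G) := inferInstance
  obtain ⟨z, hzT, hzZ, -, -, hzn, hXT⟩ := h.exists_z hno hp hn hsm T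
  have hzs := isPel_of_mem T.2 hzT
  have hab := h.s_ab hno hp hn hs hsm hzs hzZ
  have hTc : Nat.card T = s ^ (fct s (Subgroup.center G) + 2) := by
    rw [T.card_eq_multiplicity, ← Subgroup.card_top (G := G)]
    show s ^ fct s (⊤ : Subgroup G) = _
    rw [h.fct_top_succ hno hp hn hs hsm hzZ, h.X_small hno hp hn hs hsm hzZ]
  obtain ⟨g, hgT, hg⟩ : ∃ g ∈ (T : Subgroup G), g ∉ cen z := by
    by_contra hno'
    push Not at hno'
    have := fct_mono (q := s) (hno' : (T : Subgroup G) ≤ cen z)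
    rw [h.X_small hno hp hn hs hsm hzZ, fct, hTc, hs.factorization_pow,
      Finsupp.single_eq_same] at this
    omega
  have hgs := isPel_of_mem T.2 hgT
  have hgZ : g ∉ Subgroup.center G := fun e => hg (center_le_cen z e)
  have hgab := h.s_ab hno hp hn hs hsm hgs hgZ
  have hgT' : qpart (cen g) s ≤ (T : Subgroup G) := by
    obtain ⟨Z1, hZ1, hZ1s, hZ1c⟩ := exists_full hs (Subgroup.center G)
    have hZ1T : Z1 ≤ (T : Subgroup G) := fun u hu =>
      mem_sylow_of_commute T (isPel_of_mem hZ1s hu) fun v _ =>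
        mem_cen.2 (Subgroup.mem_center_iff.1 (hZ1 hu) v)
    have hle : Subgroup.zpowers g ⊔ Z1 ≤ (T : Subgroup G) ⊓ qpart (cen g) s :=
      sup_le (Subgroup.zpowers_le.2 ⟨hgT, (mem_qpart hgab).2 ⟨mem_cen_self g, hgs⟩⟩)
        fun u hu => ⟨hZ1T hu, (mem_qpart hgab).2 ⟨center_le_cen g (hZ1 hu), isPel_of_mem hZ1s hu⟩⟩
    have hlt : Nat.card Z1 < Nat.card ↥((T : Subgroup G) ⊓ qpart (cen g) s) := by
      refine lt_of_lt_of_le (lt_of_le_of_ne (Subgroup.card_le_of_le le_sup_right) fun e => hgZ ?_)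
        (Subgroup.card_le_of_le hle)
      exact hZ1 ((Subgroup.eq_of_le_of_card_ge (le_sup_right : Z1 ≤ Subgroup.zpowers g ⊔ Z1)
        e.ge).symm ▸ Subgroup.mem_sup_left (Subgroup.mem_zpowers g) : g ∈ Z1)
    obtain ⟨j, hj⟩ := IsPGroup.iff_card.1 ((isPGroup_qpart hgab (q := s)).to_le
      (inf_le_right : (T : Subgroup G) ⊓ qpart (cen g) s ≤ _))
    rw [hZ1c, hj, Nat.pow_lt_pow_iff_right hs.one_lt] at hlt
    refine (Subgroup.eq_of_le_of_card_ge inf_le_right ?_).symm.trans_le inf_le_left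
    rw [card_qpart hgab hs, hj, h.X_small hno hp hn hs hsm hgZ]
    exact Nat.pow_le_pow_right hs.pos (by omega)
  -- a `p`-element of class size `m` for each of the two subgroups
  have getA : ∀ u ∈ (T : Subgroup G), ∀ (huZ : u ∉ Subgroup.center G),
      qpart (cen u) s ≤ (T : Subgroup G) → ∃ a, IsPel p a ∧ (cen a).index = m ∧ a ∈ cen u ∧
        ∀ c : G, (T : Subgroup G) ⊓ cen (c * a * c⁻¹) = qpart (cen u) s := by
    intro u huT huZ hUT
    have hus := isPel_of_mem T.2 huT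
    have huab := h.s_ab hno hp hn hs hsm hus huZ
    obtain ⟨a, hap, ha, hau⟩ : ∃ a, IsPel p a ∧ (cen a).index = m ∧ a ∈ cen u := by
      obtain ⟨v, hv, hvp, hvZ⟩ := h.exists_t_in_cen hno hp hpn u
      rcases h.size v hvZ with hE | hF
      · exact ⟨v, hvp, hE, hv⟩
      obtain ⟨P', hP'⟩ := hvp.isPGroup_zpowers.exists_le_sylow
      obtain ⟨e0, he0p, he0⟩ := h.exists_E_pel hp hpn
      obtain ⟨c, hc⟩ := h.exists_conj_sylow hpm he0 P'
      refine ⟨c * e0 * c⁻¹, he0p.conj c, by rw [index_cen_conj, he0], ?_⟩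
      exact h.F_le_cen hF (mem_cen.1 hv) (hvp.coprime hp hs hsp.symm hus)
        (mem_cen.2 (mem_cen.1 (hc (hP' (Subgroup.mem_zpowers v)))).symm)
    refine ⟨a, hap, ha, hau, fun c => ?_⟩
    set U := qpart (cen u) s
    have hUc : Nat.card U = s ^ fct s (cen u) := card_qpart huab hs
    have hUa : U ≤ cen a := fun w hw => mem_cen.2 (huab w (qpart_le hw) a hau)
    have hmax : ∀ e : G, e ∉ Subgroup.center G → U ≤ cen e → (T : Subgroup G) ⊓ cen e = U := by
      intro e he hUe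
      refine (Subgroup.eq_of_le_of_card_ge (le_inf hUT hUe) ?_).symm
      rw [hUc]
      refine (H34.OneSize.card_le_of_le hs (T.2.to_le inf_le_left) inf_le_right).trans ?_
      rw [h.fct_eq hs hsm huZ he]
    have hTU : Nat.card T = s * Nat.card U := by
      rw [hTc, hUc, h.X_small hno hp hn hs hsm huZ, ← pow_succ']
    have hrel : (cen a).index ≤ (cen a).relIndex (T : Subgroup G) := by
      have h1 : Nat.card T = Nat.card ↥((T : Subgroup G) ⊓ cen a) *
          (cen a).relIndex (T : Subgroup G) := by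
        rw [← Subgroup.inf_relIndex_left (T : Subgroup G), ← Subgroup.relIndex_bot_left,
          ← Subgroup.relIndex_bot_left, Subgroup.relIndex_mul_relIndex _ _ _ bot_le inf_le_left]
      rw [hmax a (h.ne_center_E ha) hUa, hTU, mul_comm] at h1
      rw [ha, hms, Nat.eq_of_mul_eq_mul_left Nat.card_pos h1.symm]
    obtain ⟨τ, hτ, hτh⟩ := exists_mem_mul hrel c
    have he : c * a * c⁻¹ = τ * a * τ⁻¹ := by
      have e := (mem_cen.1 hτh).eq
      calc c * a * c⁻¹ = τ * ((τ⁻¹ * c) * a) * c⁻¹ := by group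
        _ = τ * (a * (τ⁻¹ * c)) * c⁻¹ := by rw [e]
        _ = τ * a * τ⁻¹ := by group
    refine hmax _ (fun e => h.ne_center_E ha (conj_mem_center_iff.1 e)) fun w hw => ?_
    rw [he, cen_conj]
    refine hUa ?_
    have := conj_mem_of_card hs T.2 hUT hTU.le τ⁻¹ ((T : Subgroup G).inv_mem hτ) w hw
    rwa [inv_inv] at this
  obtain ⟨a1, ha1p, ha1, ha1z, hA1⟩ := getA z hzT hzZ hXT
  obtain ⟨a2, ha2p, ha2, ha2g, hA2⟩ := getA g hgT hgZ hgT'
  have hzmem : z ∈ qpart (cen z) s := (mem_qpart hab).2 ⟨mem_cen_self z, hzs⟩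
  have hgmem : g ∈ qpart (cen g) s := (mem_qpart hgab).2 ⟨mem_cen_self g, hgs⟩
  set K1 := Subgroup.normalClosure ({a1} : Set G)
  set K2 := Subgroup.normalClosure ({a2} : Set G)
  have hK : ∀ (u a : G) (hu : u ∈ qpart (cen u) s)
      (huab : ∀ x ∈ cen u, ∀ y ∈ cen u, Commute x y),
      IsPel p a → (∀ c : G, (T : Subgroup G) ⊓ cen (c * a * c⁻¹) = qpart (cen u) s) →
      Subgroup.normalClosure ({a} : Set G) ≤ qpart (cen u) p := by
    intro u a hu huab hap hA
    refine (Subgroup.closure_le _).2 fun x hx => ?_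
    obtain ⟨a', ha', hconj⟩ := Group.mem_conjugatesOfSet_iff.1 hx
    obtain ⟨c, rfl⟩ := isConj_iff.1 hconj
    rw [Set.mem_singleton_iff] at ha'
    subst ha'
    refine (mem_qpart huab).2 ⟨?_, hap.conj c⟩
    exact mem_cen.2 (mem_cen.1 ((hA c).symm ▸ hu :
      u ∈ (T : Subgroup G) ⊓ cen (c * a' * c⁻¹)).2).symm
  have hK1 := hK z a1 hzmem hab ha1p hA1
  have hK2 := hK g a2 hgmem hgab ha2p hA2
  obtain ⟨P2, hP2⟩ := h.exists_sylow_E hpm ha2
  have ha12 : Commute a1 a2 := mem_cen.1 (hP2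
    (((isPGroup_qpart hab).to_le hK1).le_sylow_of_normal P2
      (Subgroup.subset_normalClosure (Set.mem_singleton a1))))
  have hT1 := hA1 1
  have hT2 := hA2 1
  simp only [one_mul, inv_one, mul_one] at hT1 hT2
  have hv : a1 * a2 ∉ Subgroup.center G := fun hZ => by
    apply hg
    have hle : cen a2 ≤ cen a1 := fun x hx => mem_cen.2 (by
      have h1 : Commute x (a1 * a2) := Subgroup.mem_center_iff.1 hZ x
      simpa using h1.mul_right (mem_cen.1 hx).inv_right)
    have h2 : g ∈ (T : Subgroup G) ⊓ cen a2 := hT2.symm ▸ hgmem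
    have h3 : g ∈ (T : Subgroup G) ⊓ cen a1 := ⟨h2.1, hle h2.2⟩
    rw [hT1] at h3
    exact qpart_le h3
  obtain ⟨w, hw, hws, hwZ⟩ := h.exists_s_in_cen hs hsm hv
  set c := a1⁻¹ * (w * a1 * w⁻¹) with hc
  have hc1 : c ∈ K1 := K1.mul_mem (K1.inv_mem (Subgroup.subset_normalClosure (Set.mem_singleton a1)))
    (Subgroup.normalClosure_normal.conj_mem _ (Subgroup.subset_normalClosure (Set.mem_singleton a1)) w)
  have hc2 : c ∈ K2 := by
    have e : c = a2 * (w * a2⁻¹ * w⁻¹) := by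
      have h1 := (mem_cen.1 hw).eq
      calc c = a1⁻¹ * (w * (a1 * a2)) * a2⁻¹ * w⁻¹ := by rw [hc]; group
        _ = a1⁻¹ * ((a1 * a2) * w) * a2⁻¹ * w⁻¹ := by rw [h1]
        _ = a2 * (w * a2⁻¹ * w⁻¹) := by group
    rw [e]
    exact K2.mul_mem (Subgroup.subset_normalClosure (Set.mem_singleton a2))
      (Subgroup.normalClosure_normal.conj_mem _
        (K2.inv_mem (Subgroup.subset_normalClosure (Set.mem_singleton a2))) w)
  have hcp : IsPel p c := ((mem_qpart hab).1 (hK1 hc1)).2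
  have hcg : Commute g c := hgab g (mem_cen_self g) c (qpart_le (hK2 hc2))
  have hcZ := h.fpf_p hno hp hn hs hsm hzs hzZ hgs (hzn g hgT) hg (qpart_le (hK1 hc1)) hcp hcg
  have hwc : w * a1 * w⁻¹ * a1⁻¹ = c := by
    calc w * a1 * w⁻¹ * a1⁻¹ = a1 * c * a1⁻¹ := by rw [hc]; group
      _ = c := by rw [Subgroup.mem_center_iff.1 hcZ a1, mul_inv_cancel_right]
  have hc0 : c = 1 := by
    obtain ⟨i, hi⟩ := hws
    obtain ⟨j, hj⟩ := hcp
    have h1 := H34.OneSize.conj_pow_of_central (u := w) (t := a1) (hwc ▸ hcZ) (s ^ i)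
    rw [hwc, hi, one_mul, inv_one, mul_one] at h1
    have h2 : c ^ s ^ i = 1 := mul_eq_left.1 h1.symm
    exact orderOf_eq_one_iff.1 (Nat.eq_one_of_dvd_coprimes
      (((Nat.coprime_primes hs hp).2 hsp).pow i j) (orderOf_dvd_of_pow_eq_one h2)
      (orderOf_dvd_of_pow_eq_one hj))
  have hwa1 : w ∈ cen a1 := by
    rw [hc0] at hwc
    exact mem_cen.2 (mul_inv_eq_iff_eq_mul.1 (mul_inv_eq_one.1 hwc))
  have hwa2 : w ∈ cen a2 := by
    refine mem_cen.2 ?_
    have h1 := (mem_cen.1 hwa1).inv_right.mul_right (mem_cen.1 hw)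
    rwa [inv_mul_cancel_left] at h1
  obtain ⟨k, hk⟩ := pel_conj_mem T hws
  have h1 : k * w * k⁻¹ ∈ qpart (cen z) s := hA1 k ▸ ⟨hk, mem_cen_conj hwa1⟩
  have h2 : k * w * k⁻¹ ∈ qpart (cen g) s := hA2 k ▸ ⟨hk, mem_cen_conj hwa2⟩
  have hkZ : k * w * k⁻¹ ∉ Subgroup.center G := fun e => hwZ (conj_mem_center_iff.1 e)
  have e1 := h.s_cen_eq hno hp hn hs hsm hzs hzZ hs hsm (qpart_le h1) (hws.conj k) hkZ
  have e2 := h.s_cen_eq hno hp hn hs hsm hgs hgZ hs hsm (qpart_le h2) (hws.conj k) hkZ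
  exact hg (e1 ▸ e2.symm ▸ mem_cen_self g)

end Hyp

end Cfsg.Agent.H42.Camina
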