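import Mathlib
import Cfsg.Agent.H34.OneSizeSylow

/-!
General facts used for groups with class sizes `1, m, m * n`: Sylow subgroups of subgroups,
congruences for fixed points, commuting operators of prime order on abelian subgroups.
-/

set_option autoImplicit false
set_option linter.style.haveILetI false

namespace Cfsg.Agent.H42.Camina

open Subgroup
open scoped Pointwise
open Cfsg.Agent.H34.OneSize (cen mem_cen cen_conj IsPel mem_of_parts isPel_of_mem)

variable {G : Type*} [Group G]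

/-- exponent of `q` in the order of a subgroup -/
noncomputable abbrev fct (q : ℕ) (H : Subgroup G) : ℕ := (Nat.card H).factorization q

theorem cen_mul_of_coprime {x y : G} (hc : Commute x y)
    (hco : (orderOf x).Coprime (orderOf y)) : cen (x * y) = cen x ⊓ cen y := by
  obtain ⟨i, hi⟩ := exists_pow_eq_self_of_coprime hco.symm
  obtain ⟨j, hj⟩ := exists_pow_eq_self_of_coprime hco
  rw [← pow_mul] at hi hj
  have hxi : (x * y) ^ (orderOf y * i) = x := by
    rw [hc.mul_pow, hi, pow_mul y, pow_orderOf_eq_one, one_pow, mul_one]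
  have hyj : (x * y) ^ (orderOf x * j) = y := by
    rw [hc.mul_pow, hj, pow_mul x, pow_orderOf_eq_one, one_pow, one_mul]
  refine le_antisymm (fun g hg => ⟨mem_cen.2 ?_, mem_cen.2 ?_⟩)
    fun g hg => mem_cen.2 ((mem_cen.1 hg.1).mul_right (mem_cen.1 hg.2))
  · rw [← hxi]; exact (mem_cen.1 hg).pow_right _
  · rw [← hyj]; exact (mem_cen.1 hg).pow_right _

theorem cen_le_of_mem_zpowers {x y : G} (h : y ∈ Subgroup.zpowers x) : cen x ≤ cen y := by
  intro g hg
  obtain ⟨i, rfl⟩ := Subgroup.mem_zpowers_iff.1 h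
  exact mem_cen.2 ((mem_cen.1 hg).zpow_right i)

theorem conj_eq_mul_comm (g x : G) : g * x * g⁻¹ = g * x * g⁻¹ * x⁻¹ * x := by group

/-- an element moved by a central element has the same centraliser as its conjugate -/
theorem cen_conj_eq_of_central {g x : G} (h : g * x * g⁻¹ * x⁻¹ ∈ Subgroup.center G) :
    cen (g * x * g⁻¹) = cen x := by
  ext u
  rw [conj_eq_mul_comm g x, ← Subgroup.mem_center_iff.1 h x]
  exact H34.OneSize.mem_cen_conj_iff_of_central h

theorem mem_cen_conj {g x u : G} (h : u ∈ cen x) : g * u * g⁻¹ ∈ cen (g * x * g⁻¹) :=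
  cen_conj.2 (by simpa [mul_assoc] using h)

/-- the `q`-part of an element -/
theorem exists_fullPart [Finite G] (x : G) {q : ℕ} (hq : q.Prime) :
    ∃ u ∈ Subgroup.zpowers x, IsPel q u ∧
      ∀ y ∈ Subgroup.zpowers x, IsPel q y → y ∈ Subgroup.zpowers u := by
  set N := orderOf x
  refine ⟨x ^ (N / q ^ N.factorization q), pow_mem (Subgroup.mem_zpowers x) _,
    ⟨N.factorization q, ?_⟩, fun y hy hyq => ?_⟩
  · rw [← pow_mul, Nat.div_mul_cancel (Nat.ordProj_dvd _ q)]
    exact pow_orderOf_eq_one x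
  obtain ⟨i, rfl⟩ := (isOfFinOrder_of_finite x).mem_powers_iff_mem_zpowers.2 hy
  obtain ⟨k, hk⟩ := hyq
  rw [← pow_mul] at hk
  have hd : N / q ^ N.factorization q ∣ i * q ^ k :=
    (Nat.div_dvd_of_dvd (Nat.ordProj_dvd _ q)).trans (orderOf_dvd_of_pow_eq_one hk)
  have hco : (N / q ^ N.factorization q).Coprime (q ^ k) :=
    (Nat.coprime_ordCompl hq (orderOf_pos x).ne').symm.pow_right k
  obtain ⟨c, hc⟩ := hco.dvd_of_dvd_mul_right hd
  show x ^ i ∈ _
  rw [hc, pow_mul]
  exact pow_mem (Subgroup.mem_zpowers _) c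

section Sylow

variable [Finite G]

theorem card_eq_pow {q : ℕ} (hq : q.Prime) {U : Subgroup G} (hU : IsPGroup q U) :
    Nat.card U = q ^ fct q U := by
  haveI := Fact.mk hq
  obtain ⟨k, hk⟩ := IsPGroup.iff_card.1 hU
  rw [fct, hk, hq.factorization_pow, Finsupp.single_eq_same]

theorem fct_mono {q : ℕ} {U H : Subgroup G} (h : U ≤ H) : fct q U ≤ fct q H :=
  (Nat.factorization_le_iff_dvd Nat.card_pos.ne' Nat.card_pos.ne').2
    (Subgroup.card_dvd_of_le h) q

theorem fct_add_index (q : ℕ) (H : Subgroup G) :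
    fct q H + H.index.factorization q = fct q (⊤ : Subgroup G) := by
  rw [fct, fct, Subgroup.card_top, ← H.card_mul_index,
    Nat.factorization_mul Nat.card_pos.ne' Subgroup.index_ne_zero_of_finite]
  rfl

theorem exists_full_ge {q : ℕ} (hq : q.Prime) {V H : Subgroup G} (hV : IsPGroup q V)
    (hVH : V ≤ H) :
    ∃ U : Subgroup G, V ≤ U ∧ U ≤ H ∧ IsPGroup q U ∧ Nat.card U = q ^ fct q H := by
  haveI := Fact.mk hq
  obtain ⟨S, hS⟩ := (hV.comap_subtype (K := H)).exists_le_sylow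
  refine ⟨(S : Subgroup H).map H.subtype, fun v hv => ⟨⟨v, hVH hv⟩, hS hv, rfl⟩,
    Subgroup.map_subtype_le _, S.2.map _, ?_⟩
  rw [Subgroup.card_map_of_injective (Subgroup.subtype_injective _), S.card_eq_multiplicity]

theorem exists_full {q : ℕ} (hq : q.Prime) (H : Subgroup G) :
    ∃ U : Subgroup G, U ≤ H ∧ IsPGroup q U ∧ Nat.card U = q ^ fct q H := by
  obtain ⟨U, -, h⟩ := exists_full_ge hq (IsPGroup.of_bot : IsPGroup q (⊥ : Subgroup G)) bot_le
    (H := H)
  exact ⟨U, h⟩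

theorem exists_sylow_le {q : ℕ} [Fact q.Prime] {H : Subgroup G} (h : ¬ q ∣ H.index) :
    ∃ P : Sylow q G, (P : Subgroup G) ≤ H := by
  obtain ⟨U, hU, -, hc⟩ := exists_full (Fact.out : q.Prime) H
  refine ⟨Sylow.ofCard U ?_, hU⟩
  rw [hc]
  have h1 := fct_add_index q H
  rw [Nat.factorization_eq_zero_of_not_dvd h, add_zero] at h1
  rw [h1, fct, Subgroup.card_top]

/-- Sylow conjugacy inside a subgroup -/
theorem conj_le_full {q : ℕ} (hq : q.Prime) {U V H : Subgroup G} (hUH : U ≤ H)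
    (hUc : Nat.card U = q ^ fct q H) (hV : IsPGroup q V) (hVH : V ≤ H) :
    ∃ h ∈ H, ∀ v ∈ V, h * v * h⁻¹ ∈ U := by
  haveI := Fact.mk hq
  let S : Sylow q H := Sylow.ofCard (U.subgroupOf H) (by
    rw [Nat.card_congr (Subgroup.subgroupOfEquivOfLe hUH).toEquiv, hUc])
  obtain ⟨S', hS'⟩ := (hV.comap_subtype (K := H)).exists_le_sylow
  obtain ⟨h, hh⟩ := MulAction.exists_smul_eq H S' S
  refine ⟨h, h.2, fun v hv => ?_⟩
  have h2 : MulAut.conj h • (⟨v, hVH hv⟩ : H) ∈ MulAut.conj h • (S' : Subgroup H) :=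
    Subgroup.smul_mem_pointwise_smul _ _ _ (hS' hv)
  rw [← Sylow.coe_subgroup_smul, hh, Sylow.coe_ofCard] at h2
  exact h2

theorem conj_mem_full {q : ℕ} (hq : q.Prime) {U H : Subgroup G} (hUH : U ≤ H)
    (hUc : Nat.card U = q ^ fct q H) {x : G} (hx : x ∈ H) (hxq : IsPel q x) :
    ∃ h ∈ H, h * x * h⁻¹ ∈ U := by
  obtain ⟨h, hh, hc⟩ := conj_le_full hq hUH hUc hxq.isPGroup_zpowers (Subgroup.zpowers_le.2 hx)
  exact ⟨h, hh, hc x (Subgroup.mem_zpowers x)⟩

theorem isPGroup_sup_zpowers {q : ℕ} {U : Subgroup G} (hU : IsPGroup q U) {x : G}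
    (hxq : IsPel q x) (hn : ∀ u ∈ U, x * u * x⁻¹ ∈ U) :
    IsPGroup q ↥(Subgroup.zpowers x ⊔ U) :=
  hxq.isPGroup_zpowers.to_sup_of_normal_right' hU
    (Subgroup.zpowers_le.2 (Subgroup.mem_normalizer_fintype hn))

theorem mem_full_of_normalizes {q : ℕ} (hq : q.Prime) {U H : Subgroup G} (hU : IsPGroup q U)
    (hUH : U ≤ H) (hUc : Nat.card U = q ^ fct q H) {x : G} (hx : x ∈ H) (hxq : IsPel q x)
    (hn : ∀ u ∈ U, x * u * x⁻¹ ∈ U) : x ∈ U := by
  have h1 := H34.OneSize.card_le_of_le hq (isPGroup_sup_zpowers hU hxq hn)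
    (sup_le (Subgroup.zpowers_le.2 hx) hUH)
  rw [← hUc] at h1
  have h2 := Subgroup.eq_of_le_of_card_ge (le_sup_right : U ≤ Subgroup.zpowers x ⊔ U) h1
  exact h2.symm ▸ Subgroup.mem_sup_left (Subgroup.mem_zpowers x)

theorem fct_center_lt_iff {q : ℕ} (hq : q.Prime) {H : Subgroup G}
    (hZ : Subgroup.center G ≤ H) :
    fct q (Subgroup.center G) < fct q H ↔ ∃ u ∈ H, IsPel q u ∧ u ∉ Subgroup.center G := by
  constructor
  · intro hlt
    by_contra hno
    push Not at hno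
    obtain ⟨U, hUH, hU, hUc⟩ := exists_full hq H
    have h1 := fct_mono (q := q)
      (show U ≤ Subgroup.center G from fun u hu => hno u (hUH hu) (isPel_of_mem hU hu))
    rw [fct, hUc, hq.factorization_pow, Finsupp.single_eq_same] at h1
    omega
  · rintro ⟨u, huH, huq, huZ⟩
    obtain ⟨U, hUZ, hU, hUc⟩ := exists_full hq (Subgroup.center G)
    have h1 := H34.OneSize.card_le_of_le hq
      (isPGroup_sup_zpowers hU huq fun v hv => by
        rwa [Subgroup.mem_center_iff.1 (hUZ hv) u, mul_inv_cancel_right])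
      (sup_le (Subgroup.zpowers_le.2 huH) (hUZ.trans hZ))
    by_contra hno
    push Not at hno
    have h2 := h1.trans (Nat.pow_le_pow_right hq.pos hno)
    rw [← hUc] at h2
    have h3 := Subgroup.eq_of_le_of_card_ge (le_sup_right : U ≤ Subgroup.zpowers u ⊔ U) h2
    exact huZ (hUZ (h3.symm ▸ Subgroup.mem_sup_left (Subgroup.mem_zpowers u) : u ∈ U))

/-- two subgroups in a third one -/
theorem card_mul_card_le {X Y T : Subgroup G} (hX : X ≤ T) (hY : Y ≤ T) :
    Nat.card X * Nat.card Y ≤ Nat.card T * Nat.card ↥(X ⊓ Y) := by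
  have h1 : Nat.card Y = Nat.card ↥(X ⊓ Y) * X.relIndex Y := by
    rw [← Subgroup.inf_relIndex_right X Y, ← Subgroup.relIndex_bot_left,
      ← Subgroup.relIndex_bot_left, Subgroup.relIndex_mul_relIndex _ _ _ bot_le inf_le_right]
  have h2 : Nat.card T = Nat.card X * X.relIndex T := by
    rw [← Subgroup.relIndex_bot_left, ← Subgroup.relIndex_bot_left,
      Subgroup.relIndex_mul_relIndex _ _ _ bot_le hX]
  have h3 : X.relIndex Y ≤ X.relIndex T :=
    Subgroup.relIndex_le_of_le_right hY fun e =>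
      (Nat.card_pos (α := T)).ne' (by rw [h2, e, mul_zero])
  rw [h1, h2]
  calc Nat.card X * (Nat.card ↥(X ⊓ Y) * X.relIndex Y)
      ≤ Nat.card X * (Nat.card ↥(X ⊓ Y) * X.relIndex T) :=
        Nat.mul_le_mul_left _ (Nat.mul_le_mul_left _ h3)
    _ = _ := by ring

/-- cyclic extensions of order `s` -/
theorem card_le_mul {s : ℕ} (hs : 0 < s) {X T : Subgroup G} {h : G} (hsX : h ^ s ∈ X)
    (hex : ∀ g ∈ T, ∃ j : ℕ, g * h ^ j ∈ X) : Nat.card T ≤ s * Nat.card X := by
  classical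
  have hex' : ∀ g : T, ∃ j : Fin s, (g : G) * h ^ (j : ℕ) ∈ X := by
    intro g
    obtain ⟨j, hj⟩ := hex g g.2
    refine ⟨⟨j % s, Nat.mod_lt _ hs⟩, ?_⟩
    have : (g : G) * h ^ (j % s) = g * h ^ j * ((h ^ s) ^ (j / s))⁻¹ := by
      rw [eq_mul_inv_iff_mul_eq, mul_assoc, ← pow_mul, ← pow_add, Nat.mod_add_div]
    show (g : G) * h ^ (j % s) ∈ X
    rw [this]
    exact mul_mem hj (inv_mem (pow_mem hsX _))
  choose f hf using hex'
  calc Nat.card T ≤ Nat.card (Fin s × X) :=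
        Nat.card_le_card_of_injective (fun g => (f g, ⟨_, hf g⟩)) fun a b e => by
          simp only [Prod.mk.injEq, Subtype.mk.injEq] at e
          obtain ⟨e1, e2⟩ := e
          rw [e1] at e2
          exact Subtype.ext (mul_right_cancel e2)
    _ = s * Nat.card X := by rw [Nat.card_prod, Nat.card_fin]

/-- subgroups of index `p` of `p`-groups are normal -/
theorem conj_mem_of_card {p : ℕ} (hp : p.Prime) {T X : Subgroup G} (hT : IsPGroup p T)
    (hXT : X ≤ T) (hc : Nat.card T ≤ p * Nat.card X) :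
    ∀ g ∈ T, ∀ x ∈ X, g * x * g⁻¹ ∈ X := by
  haveI := Fact.mk hp
  intro g hg x hx
  rcases eq_or_lt_of_le hXT with e | hlt
  · subst e; exact mul_mem (mul_mem hg hx) (inv_mem hg)
  · have hne : X.subgroupOf T ≠ ⊤ := fun e => not_le_of_gt hlt
      (Subgroup.subgroupOf_eq_top.1 e)
    haveI : Group.IsNilpotent T := hT.isNilpotent
    have hlt' := Group.normalizerCondition_of_isNilpotent (X.subgroupOf T) (lt_top_iff_ne_top.2 hne)
    set M := Subgroup.normalizer ((X.subgroupOf T : Subgroup T) : Set T)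
    obtain ⟨a, ha⟩ := IsPGroup.iff_card.1 (hT.to_subgroup M)
    obtain ⟨b, hb⟩ := IsPGroup.iff_card.1 (hT.to_le hXT)
    have hXc : Nat.card (X.subgroupOf T) = p ^ b := by
      rw [Nat.card_congr (Subgroup.subgroupOfEquivOfLe hXT).toEquiv, hb]
    have hba : b < a := by
      by_contra hle
      push Not at hle
      exact hlt'.ne (Subgroup.eq_of_le_of_card_ge hlt'.le (by
        rw [ha, hXc]; exact Nat.pow_le_pow_right hp.pos hle))
    have hM : M = ⊤ := by
      refine Subgroup.eq_top_of_card_eq _ (le_antisymm (Subgroup.card_le_card_group M) ?_)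
      calc Nat.card T ≤ p * Nat.card X := hc
        _ = p ^ (b + 1) := by rw [hb, pow_succ']
        _ ≤ p ^ a := Nat.pow_le_pow_right hp.pos hba
        _ = Nat.card M := ha.symm
    have := (Subgroup.mem_normalizer_iff.1 (hM ▸ Subgroup.mem_top (⟨g, hg⟩ : T) : ⟨g, hg⟩ ∈ M)
      ⟨x, hXT hx⟩).1 hx
    exact this

/-- fixed points of a `p`-element on a subgroup it normalises -/
theorem card_modEq_fixed {s : ℕ} (hs : s.Prime) {U : Subgroup G} {g : G} (hg : IsPel s g)
    (hn : ∀ u ∈ U, g * u * g⁻¹ ∈ U) :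
    Nat.card U ≡ Nat.card ↥(U ⊓ cen g) [MOD s] := by
  haveI := Fact.mk hs
  have hle : Subgroup.zpowers g ≤ Subgroup.normalizer (U : Set G) :=
    Subgroup.zpowers_le.2 (Subgroup.mem_normalizer_fintype hn)
  letI act : MulAction (Subgroup.zpowers g) U :=
    MulAction.compHom U ((Subgroup.normalizerMonoidHom U).comp (Subgroup.inclusion hle))
  have happ : ∀ (k : Subgroup.zpowers g) (u : U), ((k • u : U) : G) = k * u * (k : G)⁻¹ :=
    fun k u => rfl
  refine (hg.isPGroup_zpowers.card_modEq_card_fixedPoints U).trans (Nat.ModEq.refl _) |>.trans ?_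
  rw [Nat.card_congr (α := MulAction.fixedPoints (Subgroup.zpowers g) U) (β := ↥(U ⊓ cen g))
    ⟨fun u => ⟨(u : U), (u : U).2, mem_cen.2 (Commute.symm (mul_inv_eq_iff_eq_mul.1
      ((happ ⟨g, Subgroup.mem_zpowers g⟩ u).symm.trans
        (congrArg Subtype.val (u.2 ⟨g, Subgroup.mem_zpowers g⟩)))))⟩,
    fun u => ⟨⟨u, u.2.1⟩, fun k => Subtype.ext (by
      rw [happ]
      obtain ⟨i, hi⟩ := Subgroup.mem_zpowers_iff.1 k.2
      exact mul_inv_eq_iff_eq_mul.2 (hi ▸ ((mem_cen.1 u.2.2).symm.zpow_left i).eq))⟩,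
    fun u => rfl, fun u => rfl⟩]

/-- an element central modulo the centre, of order `s` modulo the centre -/
theorem exists_good {s : ℕ} (hs : s.Prime) {T X : Subgroup G} (hT : IsPGroup s T) (hXT : X ≤ T)
    (hX : ∀ g ∈ T, ∀ x ∈ X, g * x * g⁻¹ ∈ X) (hne : ¬ X ≤ Subgroup.center G) :
    ∃ x ∈ X, x ∉ Subgroup.center G ∧ x ^ s ∈ Subgroup.center G ∧
      ∀ g ∈ T, g * x * g⁻¹ * x⁻¹ ∈ Subgroup.center G := by
  haveI := Fact.mk hs
  obtain ⟨u, hu, huZ, huc⟩ := H34.OneSize.exists_step (Y := Subgroup.center G) hT hXT hX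
    (fun w _ g hg => (inferInstance : (Subgroup.center G).Normal).conj_mem g hg w) hne
  obtain ⟨k, hk⟩ := isPel_of_mem hT (hXT hu)
  classical
  have hex : ∃ i, u ^ s ^ i ∈ Subgroup.center G := ⟨k, by rw [hk]; exact one_mem _⟩
  have h0 : Nat.find hex ≠ 0 := fun e => huZ (by
    have := Nat.find_spec hex
    rwa [e, pow_zero, pow_one] at this)
  obtain ⟨i, hi⟩ := Nat.exists_eq_succ_of_ne_zero h0
  refine ⟨u ^ s ^ i, pow_mem hu _, Nat.find_min hex (by omega), ?_, fun g hg => ?_⟩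
  · rw [← pow_mul, ← pow_succ]
    have := Nat.find_spec hex
    rwa [hi] at this
  · rw [H34.OneSize.conj_pow_of_central' (huc g hg) _,
      Subgroup.mem_center_iff.1 (pow_mem (huc g hg) _) (u ^ s ^ i), mul_inv_cancel_right]
    exact pow_mem (huc g hg) _

end Sylow

/-- powers and commutators of elements moving `x` centrally centralise it -/
theorem pow_mem_cen {s : ℕ} {g x : G} (hc : g * x * g⁻¹ * x⁻¹ ∈ Subgroup.center G)
    (hx : x ^ s ∈ Subgroup.center G) : g ^ s ∈ cen x := by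
  have h1 := H34.OneSize.conj_pow_of_central' hc s
  rw [Subgroup.mem_center_iff.1 hx g, mul_inv_cancel_right] at h1
  have h2 := H34.OneSize.conj_pow_of_central hc s
  rw [mul_eq_left.1 h1.symm, mul_one] at h2
  exact mem_cen.2 (mul_inv_eq_iff_eq_mul.1 h2)

theorem comm_mem_cen {g h x : G} (hg : g * x * g⁻¹ * x⁻¹ ∈ Subgroup.center G)
    (hh : h * x * h⁻¹ * x⁻¹ ∈ Subgroup.center G) : g * h * g⁻¹ * h⁻¹ ∈ cen x := by
  set a := g * x * g⁻¹ * x⁻¹ with ha
  set b := h * x * h⁻¹ * x⁻¹ with hb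
  have e1 : g * x = a * x * g := by rw [ha]; group
  have e2 : h * x = b * x * h := by rw [hb]; group
  have ca := Subgroup.mem_center_iff.1 hg
  have cb := Subgroup.mem_center_iff.1 hh
  have hgh : g * h * x = (a * b) * x * (g * h) := by
    rw [mul_assoc g h x, e2, ← mul_assoc, ← mul_assoc, cb g, mul_assoc b g x, e1]
    rw [← ca b]; group
  have hhg : h * g * x = (a * b) * x * (h * g) := by
    rw [mul_assoc h g x, e1, ← mul_assoc, ← mul_assoc, ca h, mul_assoc a h x, e2]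
    group
  refine mem_cen.2 ?_
  have : g * h * g⁻¹ * h⁻¹ * (h * g * x) = x * (g * h * g⁻¹ * h⁻¹) * (h * g) * (a * b) := by
    rw [show g * h * g⁻¹ * h⁻¹ * (h * g * x) = g * h * x by group, hgh]
    rw [show x * (g * h * g⁻¹ * h⁻¹) * (h * g) = x * (g * h) by group,
      Subgroup.mem_center_iff.1 (mul_mem hg hh) (x * (g * h))]
    group
  rw [hhg] at this
  have h3 : g * h * g⁻¹ * h⁻¹ * x * (h * g) * (a * b) =
      x * (g * h * g⁻¹ * h⁻¹) * (h * g) * (a * b) := by
    rw [← this, Subgroup.mem_center_iff.1 (mul_mem hg hh) (g * h * g⁻¹ * h⁻¹ * x * (h * g))]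
    rw [show a * b * x * (h * g) = (a * b) * (x * (h * g)) by group]
    rw [← mul_assoc (g * h * g⁻¹ * h⁻¹) (a * b), Subgroup.mem_center_iff.1 (mul_mem hg hh)
      (g * h * g⁻¹ * h⁻¹)]
    group
  exact mul_right_cancel (mul_right_cancel h3)

/-- two commuting operators of order `p` on an abelian subgroup without fixed `q`-points -/
theorem exists_mul_pow_mem' [Finite G] {M : Subgroup G}
    (hM : ∀ a ∈ M, ∀ b ∈ M, Commute a b) {p q : ℕ} (hp : p.Prime) (hq : q.Prime) (hpq : p ≠ q)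
    {g h : G} (hgn : ∀ a ∈ M, g * a * g⁻¹ ∈ M) (hhn : ∀ a ∈ M, h * a * h⁻¹ ∈ M)
    (hgp : g ^ p ∈ M) (hhp : h ^ p ∈ M) (hgh : g * h * g⁻¹ * h⁻¹ ∈ M) (hh : h ∉ M)
    (hfh : ∀ v ∈ M, IsPel q v → Commute h v → v ∈ Subgroup.center G)
    (hfgh : ∀ j : ℕ, g * h ^ j ∉ M →
      ∀ v ∈ M, IsPel q v → Commute (g * h ^ j) v → v ∈ Subgroup.center G)
    (hv : ∃ v ∈ M, IsPel q v ∧ v ∉ Subgroup.center G) : ∃ j : ℕ, g * h ^ j ∈ M := by
  classical
  haveI := Fact.mk hp
  by_contra hno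
  push Not at hno
  letI : CommGroup M :=
    { (inferInstance : Group M) with
      mul_comm := fun a b => Subtype.ext (hM _ a.2 _ b.2).eq }
  let φ := Subgroup.normalizerMonoidHom M
  let g' : Subgroup.normalizer (M : Set G) := ⟨g, Subgroup.mem_normalizer_fintype hgn⟩
  let h' : Subgroup.normalizer (M : Set G) := ⟨h, Subgroup.mem_normalizer_fintype hhn⟩
  have happ : ∀ (u : Subgroup.normalizer (M : Set G)) (a : M),
      ((φ u a : M) : G) = (u : G) * a * (u : G)⁻¹ := fun u a => rfl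
  have htriv : ∀ u : Subgroup.normalizer (M : Set G), (u : G) ∈ M → φ u = 1 :=
    fun u hu => MulEquiv.ext fun a => Subtype.ext (by
      rw [happ]; exact mul_inv_eq_iff_eq_mul.2 (hM _ hu _ a.2).eq)
  have hab : Commute (φ g') (φ h') := by
    have h1 : φ (g' * h' * g'⁻¹ * h'⁻¹) = 1 := htriv _ hgh
    rw [map_mul, map_mul, map_mul, map_inv, map_inv, mul_inv_eq_one, mul_inv_eq_iff_eq_mul] at h1
    exact h1
  have hpel : ∀ v : M, IsPel q v → IsPel q (v : G) := fun v ⟨k, hk⟩ =>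
    ⟨k, by rw [← Subgroup.coe_pow, hk]; rfl⟩
  have hcm : ∀ (u : Subgroup.normalizer (M : Set G)) (v : M), φ u v = v →
      Commute (u : G) (v : G) := fun u v e => by
    have h1 := congrArg Subtype.val e
    rw [happ] at h1
    exact mul_inv_eq_iff_eq_mul.1 h1
  obtain ⟨v, hvM, hvq, hvZ⟩ := hv
  refine hvZ (Subgroup.mem_subgroupOf.1 (H34.OneSize.no_pair (A := M) hq hpq
    ((Subgroup.center G).subgroupOf M) (φ g') (φ h') hab
    (by rw [← map_pow]; exact htriv _ hgp) (by rw [← map_pow]; exact htriv _ hhp)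
    (fun w hwq hw => hfh w w.2 (hpel w hwq) (hcm h' w hw))
    (fun j w hwq hw => hfgh j (hno j) w w.2 (hpel w hwq)
      (hcm (g' * h' ^ j) w (by rw [map_mul, map_pow]; exact hw)))
    (v := ⟨v, hvM⟩) ?_))
  obtain ⟨k, hk⟩ := hvq
  exact ⟨k, Subtype.ext (by simpa using hk)⟩

end Cfsg.Agent.H42.Camina
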