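import Cfsg.Agent.H42.Camina.Basic
import Cfsg.Agent.H76.TwoClassSizes

/-!
Class sizes `1, m, m * n` without abelian centraliser of index `m`: `n` is a prime power.
-/

set_option autoImplicit false
set_option linter.style.haveILetI false

namespace Cfsg.Agent.H42.Camina

open Subgroup
open Cfsg.Agent.H34.OneSize (cen mem_cen cen_conj IsPel mem_of_parts isPel_of_mem)

variable {G : Type*} [Group G] {m n : ℕ}

theorem cen_subgroup {H : Subgroup G} (y : H) : cen y = (cen (y : G)).subgroupOf H := by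
  ext u
  rw [Subgroup.mem_subgroupOf, mem_cen, mem_cen]
  exact ⟨fun e => congrArg Subtype.val e, fun e => Subtype.ext e⟩

variable [Finite G]

namespace Hyp

variable (h : Hyp G m n)
include h

theorem relIndex_cen {a y : G} (ha : (cen a).index = m) (hc : Commute a y)
    (hco : (orderOf a).Coprime (orderOf y)) :
    (cen y).relIndex (cen a) = 1 ∨ (cen y).relIndex (cen a) = n := by
  rcases h.E_dichotomy ha hc hco with hle | ⟨hF, he⟩
  · exact Or.inl (Subgroup.relIndex_eq_one.2 hle)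
  · refine Or.inr ?_
    have h1 := Subgroup.relIndex_mul_index (inf_le_left : cen a ⊓ cen y ≤ cen a)
    rw [inf_comm, Subgroup.inf_relIndex_right, ha, inf_comm, ← he, hF, mul_comm m n] at h1
    exact Nat.eq_of_mul_eq_mul_right (by have := h.hm; omega) h1

/-- a second prime in the centre of a centraliser of index `m` -/
theorem exists_partner {a : G} {q t : ℕ} (hq : q.Prime) (hqa : IsPel q a)
    (ha : (cen a).index = m) (ht : t.Prime) (htn : t ∣ n) (hqt : q ≠ t) :
    ∃ e : G, IsPel t e ∧ (cen e).index = m ∧ cen e = cen a := by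
  haveI := Fact.mk ht
  obtain ⟨R, hR⟩ := h.exists_sylow_E (h.not_dvd_m ht htn) ha
  obtain ⟨e0, he0t, he0⟩ := h.exists_E_pel ht htn
  obtain ⟨c, hc⟩ := h.exists_conj_sylow (h.not_dvd_m ht htn) he0 R
  set e := c * e0 * c⁻¹
  have het : IsPel t e := he0t.conj c
  have heE : (cen e).index = m := by rw [index_cen_conj, he0]
  have hea : e ∈ cen a := hR (mem_sylow_of_commute R het hc)
  rcases h.E_dichotomy ha (mem_cen.1 hea).symm (hqa.coprime hq ht hqt het) with hle | ⟨hF, he⟩
  · exact ⟨e, het, heE, (h.eq_of_le_E ha (h.ne_center_E heE) hle).symm⟩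
  · refine absurd ?_ (not_dvd_index_of_sylow_le R (H := cen (a * e)) (he ▸ le_inf hR hc))
    rw [hF]; exact htn.mul_left m

theorem exists_prime_pow (hno : ¬ HasAb G m) : ∃ p k : ℕ, p.Prime ∧ n = p ^ k := by
  classical
  by_contra hnpp
  push Not at hnpp
  have hn0 : n ≠ 0 := by have := h.hn; omega
  obtain ⟨t1, ht1, ht1n⟩ := Nat.exists_prime_and_dvd h.hn.ne'
  obtain ⟨t2, ht2, ht2n, ht12⟩ : ∃ t2, t2.Prime ∧ t2 ∣ n ∧ t2 ≠ t1 := by
    by_contra hall
    push Not at hall
    exact hnpp t1 _ ht1 (Nat.eq_prime_pow_of_unique_prime_dvd hn0 fun hd hdn => hall _ hd hdn)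
  -- the centraliser
  obtain ⟨a, q, hq, hqa, ha, hqn⟩ : ∃ (a : G) (q : ℕ), Nat.Prime q ∧ IsPel q a ∧ (cen a).index = m ∧
      (q ∣ n → ∀ (r : ℕ) (x : G), Nat.Prime r → IsPel r x → (cen x).index = m → r ∣ n) := by
    by_cases hex : ∃ (r : ℕ) (x : G), Nat.Prime r ∧ IsPel r x ∧ (cen x).index = m ∧ ¬ r ∣ n
    · obtain ⟨r, x, hr, hrx, hx, hrn⟩ := hex
      exact ⟨x, r, hr, hrx, hx, fun e => absurd e hrn⟩
    · push Not at hex
      obtain ⟨u, hu, huE⟩ := h.exists_E_pel ht1 ht1n
      exact ⟨u, t1, ht1, hu, huE, fun _ r x hr hrx hx => hex r x hr hrx hx⟩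
  set H := cen a with hH
  have hP : ∀ t, t.Prime → (t = q ∨ t ∣ n) →
      ∃ e, IsPel t e ∧ (cen e).index = m ∧ cen e = H := by
    intro t ht htc
    by_cases e : q = t
    · subst e; exact ⟨a, hqa, ha, rfl⟩
    · exact h.exists_partner hq hqa ha ht (htc.resolve_left (Ne.symm e)) e
  have hF : ∀ r u, Nat.Prime r → IsPel r u → u ∈ H → ¬ H ≤ cen u →
      ∀ c e, Nat.Prime c → c ≠ r → IsPel c e → (cen e).index = m → cen e = H →
      (cen (e * u)).index = m * n ∧ cen (e * u) = H ⊓ cen u := by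
    intro r u hr hru hu hnu c e hc hcr hce he heH
    rcases h.E_dichotomy he (mem_cen.1 (heH ▸ hu : u ∈ cen e)).symm
      (hce.coprime hc hr hcr hru) with hle | hFe
    · exact absurd (heH ▸ hle) hnu
    · rwa [← heH]
  have htwo : ∀ r, ∃ c, Nat.Prime c ∧ c ∣ n ∧ c ≠ r := fun r => by
    by_cases e : t1 = r
    · exact ⟨t2, ht2, ht2n, fun e' => ht12 (e'.trans e.symm)⟩
    · exact ⟨t1, ht1, ht1n, e⟩
  have pair : ∀ r u r' v, Nat.Prime r → Nat.Prime r' → r ≠ r' → IsPel r u → IsPel r' v →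
      u ∈ H → v ∈ H → ¬ H ≤ cen u → ¬ H ≤ cen v → Commute u v → H ⊓ cen u ≤ cen v := by
    intro r u r' v hr hr' hrr hru hrv hu hv hnu hnv huv
    by_cases hthird : ∃ c, Nat.Prime c ∧ (c = q ∨ c ∣ n) ∧ c ≠ r ∧ c ≠ r'
    · obtain ⟨c, hc, hcc, hcr, hcr'⟩ := hthird
      obtain ⟨e, hce, he, heH⟩ := hP c hc hcc
      have hco : (orderOf e).Coprime (orderOf (u * v)) :=
        Nat.Coprime.coprime_dvd_right huv.orderOf_mul_dvd_mul_orderOf
          (Nat.Coprime.mul_right (hce.coprime hc hr hcr hru) (hce.coprime hc hr' hcr' hrv))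
      have heuv := cen_mul_of_coprime huv (hru.coprime hr hr' hrr hrv)
      have hcm : Commute e (u * v) :=
        (mem_cen.1 (heH ▸ H.mul_mem hu hv : u * v ∈ cen e)).symm
      rcases h.E_dichotomy he hcm hco with hle | ⟨hF2, he2⟩
      · exact absurd (heH ▸ hle.trans (heuv.trans_le inf_le_left)) hnu
      · obtain ⟨hF1, he1⟩ := hF r u hr hru hu hnu c e hc hcr hce he heH
        have := h.eq_of_le_F (h.ne_center_F hF2) hF1 (by
          rw [he2, he1, heuv, heH]; exact inf_le_inf_left _ inf_le_left)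
        rw [← he1, ← this, he2, heuv]
        exact inf_le_right.trans inf_le_right
    · push Not at hthird
      -- both primes divide `n` and there are no other possible centres
      have hcase : ∀ c, Nat.Prime c → (c = q ∨ c ∣ n) → c = r ∨ c = r' := fun c hc hcc =>
        or_iff_not_imp_left.2 (hthird c hc hcc)
      have hr'n : r' ∣ n := by
        obtain ⟨c, hc, hcn, hcr⟩ := htwo r
        exact (hcase c hc (Or.inr hcn)).resolve_left hcr ▸ hcn
      have hrn : r ∣ n := by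
        obtain ⟨c, hc, hcn, hcr⟩ := htwo r'
        exact (hcase c hc (Or.inr hcn)).resolve_right hcr ▸ hcn
      have hqn' : q ∣ n := by
        rcases hcase q hq (Or.inl rfl) with e | e <;> rw [e] <;> assumption
      obtain ⟨e, hce, he, heH⟩ := hP r' hr' (Or.inr hr'n)
      obtain ⟨hF1, he1⟩ := hF r u hr hru hu hnu r' e hr' (Ne.symm hrr) hce he heH
      obtain ⟨s, hs, hsm⟩ := Nat.exists_prime_and_dvd h.hm.ne'
      have hsn := h.not_dvd_n hs hsm
      obtain ⟨x, hxD, hxs, hxZ⟩ := h.exists_s_in_cen hs hsm (h.ne_center_F hF1)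
      have hxF : (cen x).index = m * n :=
        (h.size x hxZ).resolve_left fun hE => hsn (hqn hqn' s x hs hxs hE)
      rw [he1] at hxD
      have hsr : s ≠ r := fun e' => hsn (e' ▸ hrn)
      have hsr' : s ≠ r' := fun e' => hsn (e' ▸ hr'n)
      have h1 : cen x ≤ H := heH ▸ h.F_le_cen hxF (mem_cen.1 (heH ▸ hxD.1 : x ∈ cen e))
        (hxs.coprime hs hr' hsr' hce)
      have h2 : cen x ≤ cen u := h.F_le_cen hxF (mem_cen.1 hxD.2) (hxs.coprime hs hr hsr hru)
      have h3 := h.eq_of_le_F hxZ hF1 (he1 ▸ le_inf h1 h2)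
      rw [← he1, ← h3]
      refine h.F_le_cen hxF ?_ (hxs.coprime hs hr' hsr' hrv)
      refine (mem_cen.1 ?_).symm
      rw [h3, he1]
      exact ⟨hv, mem_cen.2 huv.symm⟩
  -- all classes of `H` have one size
  have hsize : ∀ x : H, x ∉ Subgroup.center H →
      (Subgroup.centralizer ({x} : Set H)).index = n := by
    intro x hx
    show (cen x).index = n
    rw [cen_subgroup x]
    show (cen (x : G)).relIndex H = n
    obtain ⟨r, hr, u, hu, hru, hufull, hnu⟩ : ∃ r, Nat.Prime r ∧ ∃ u ∈ Subgroup.zpowers (x : G),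
        IsPel r u ∧ (∀ y ∈ Subgroup.zpowers (x : G), IsPel r y → y ∈ Subgroup.zpowers u) ∧
        ¬ H ≤ cen u := by
      by_contra hall
      push Not at hall
      refine hx (Subgroup.mem_center_iff.2 fun g => Subtype.ext ?_)
      refine (mem_cen.1 (mem_of_parts (cen (g : G)) (x : G) fun y hy r hr hry => ?_)).eq.symm
      obtain ⟨u, hu, hru, hfull⟩ := exists_fullPart (x : G) hr
      exact mem_cen.2 (mem_cen.1 ((hall r hr u hu hru hfull).trans
        (cen_le_of_mem_zpowers (hfull y hy hry)) g.2)).symm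
    have huH : u ∈ H := (Subgroup.zpowers_le.2 x.2) hu
    have e : H ⊓ cen (x : G) = H ⊓ cen u := by
      refine le_antisymm (inf_le_inf_left _ (cen_le_of_mem_zpowers hu)) fun g hg => ⟨hg.1, ?_⟩
      refine mem_cen.2 (mem_cen.1 (mem_of_parts (cen g) (x : G) fun y hy r' hr' hry => ?_)).symm
      refine mem_cen.2 (mem_cen.1 ?_).symm
      by_cases hr'r : r' = r
      · subst hr'r
        exact cen_le_of_mem_zpowers (hufull y hy hry) hg.2
      by_cases hny : H ≤ cen y
      · exact hny hg.1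
      refine pair r u r' y hr hr' (Ne.symm hr'r) hru hry huH ((Subgroup.zpowers_le.2 x.2) hy)
        hnu hny ?_ hg
      obtain ⟨i, rfl⟩ := Subgroup.mem_zpowers_iff.1 hu
      obtain ⟨j, rfl⟩ := Subgroup.mem_zpowers_iff.1 hy
      exact (Commute.refl (x : G)).zpow_zpow i j
    obtain ⟨c, hc, hcn, hcr⟩ := htwo r
    obtain ⟨e', hce, he', heH⟩ := hP c hc (Or.inr hcn)
    rw [← Subgroup.inf_relIndex_right, inf_comm, e, inf_comm, Subgroup.inf_relIndex_right, ← heH]
    refine (h.relIndex_cen he' (mem_cen.1 (heH ▸ huH : u ∈ cen e')).symm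
      (hce.coprime hc hr hcr hru)).resolve_left fun h1 => hnu ?_
    exact heH ▸ Subgroup.relIndex_eq_one.1 h1
  obtain ⟨x, hx⟩ : ∃ x : H, x ∉ Subgroup.center H := by
    by_contra hall
    push Not at hall
    exact hno ⟨a, ha, fun b hb c hc =>
      congrArg Subtype.val (Subgroup.mem_center_iff.1 (hall ⟨c, hc⟩) ⟨b, hb⟩)⟩
  obtain ⟨p, hp, hpg, -⟩ := H76.ito_two_class_sizes n h.hn hsize ⟨x, hx⟩
  haveI := Fact.mk hp
  obtain ⟨k, hk⟩ := IsPGroup.iff_card.1 hpg
  have hd := Subgroup.index_dvd_of_le (Subgroup.center_le_centralizer ({x} : Set H))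
  rw [hsize x hx, Subgroup.index_eq_card, hk] at hd
  obtain ⟨j, -, hj⟩ := (Nat.dvd_prime_pow hp).1 hd
  exact hnpp p j hp hj

end Hyp

end Cfsg.Agent.H42.Camina
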